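import Cfsg.Agent.Lib.Recog.SpAmalgam.Cell

/-!
The induction along the frame: a compatible family on the small subgroups extends.
-/

set_option autoImplicit false
set_option linter.unusedSectionVars false

namespace Cfsg.Lib.Recog.SpAmalgam

open Module
open Cfsg.Lib.Linear.Symp

variable {F V H : Type*} [Field F] [AddCommGroup V] [Module F V] [FiniteDimensional F V] [Group H]

/-- The lifts of the small subgroups. -/
structure Data (B : LinearMap.BilinForm F V) (n : ℕ) (H : Type*) [Group H] where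
  hA : B.IsAlt
  hB : B.Nondegenerate
  hn : 2 ≤ n
  Φ : Frame B n
  A : Fin n → Subgroup (H × iso B)
  K : Fin n → Subgroup (H × iso B)
  mapA : ∀ j, (A j).map (MonoidHom.snd H (iso B)) = Φ.ss j
  mapK : ∀ i : Fin n, (i : ℕ) + 1 < n → (K i).map (MonoidHom.snd H (iso B)) = Φ.mm i
  injAA : ∀ j l, j ≠ l → Inj (A j ⊔ A l)
  injKK : ∀ i k : Fin n, i ≠ k → (i : ℕ) + 1 < n → (k : ℕ) + 1 < n → Inj (K i ⊔ K k)
  injKA : ∀ i j : Fin n, (i : ℕ) + 1 < n → Inj (K i ⊔ A j)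
  hF : (∃ a : F, a ≠ 0 ∧ a ≠ 1) ∨ ∀ i j k : Fin n, (j : ℕ) = (i : ℕ) + 1 → (k : ℕ) = (j : ℕ) + 1 →
    ∃ g ∈ A j ⊔ A k ⊔ K j, ∃ h ∈ A j ⊔ A k ⊔ K j, ((g.2 : iso B) : V ≃ₗ[F] V) (Φ.e j) = Φ.e k ∧
      ((h.2 : iso B) : V ≃ₗ[F] V) (Φ.e j) = Φ.e j + Φ.e k ∧
      lf (K i) (kg hA (Φ.e i) (Φ.e j)) * (g * lf (K i) (kg hA (Φ.e i) (Φ.e j)) * g⁻¹) =
        h * lf (K i) (kg hA (Φ.e i) (Φ.e j)) * h⁻¹

namespace Data

variable {B : LinearMap.BilinForm F V} {n : ℕ} (D : Data B n H)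

/-- The subgroup generated by the lifts with indices at least `m`. -/
def gam (m : ℕ) : Subgroup (H × iso B) :=
  (⨆ (j : Fin n) (_ : m ≤ (j : ℕ)), D.A j) ⊔
    (⨆ (i : Fin n) (_ : m ≤ (i : ℕ)) (_ : (i : ℕ) + 1 < n), D.K i)

theorem A_le {m : ℕ} {j : Fin n} (h : m ≤ (j : ℕ)) : D.A j ≤ D.gam m :=
  le_sup_of_le_left (le_iSup₂_of_le j h le_rfl)

theorem K_le {m : ℕ} {i : Fin n} (h : m ≤ (i : ℕ)) (h' : (i : ℕ) + 1 < n) : D.K i ≤ D.gam m :=
  le_sup_of_le_right (le_iSup₂_of_le i h (le_iSup_of_le h' le_rfl))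

theorem gam_le {m : ℕ} {T : Subgroup (H × iso B)} (hA : ∀ j : Fin n, m ≤ (j : ℕ) → D.A j ≤ T)
    (hK : ∀ i : Fin n, m ≤ (i : ℕ) → (i : ℕ) + 1 < n → D.K i ≤ T) : D.gam m ≤ T :=
  sup_le (iSup₂_le hA) (iSup₂_le fun i h => iSup_le (hK i h))

theorem gam_mono {a b : ℕ} (h : a ≤ b) : D.gam b ≤ D.gam a :=
  D.gam_le (fun _ hj => D.A_le (h.trans hj)) (fun _ hi hi' => D.K_le (h.trans hi) hi')

theorem sndA {j : Fin n} {x : H × iso B} (hx : x ∈ D.A j) : x.2 ∈ D.Φ.ss j := snd_mem (D.mapA j) hx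

theorem sndK {i : Fin n} (hi : (i : ℕ) + 1 < n) {x : H × iso B} (hx : x ∈ D.K i) : x.2 ∈ D.Φ.mm i :=
  snd_mem (D.mapK i hi) hx

theorem comm_AA {j l : Fin n} (h : j ≠ l) {x y : H × iso B} (hx : x ∈ D.A j) (hy : y ∈ D.A l) :
    x * y = y * x :=
  (D.injAA j l h).comm (Subgroup.mem_sup_left hx) (Subgroup.mem_sup_right hy)
    (D.Φ.ss_ss_comm D.hA h (D.sndA hx) (D.sndA hy))

theorem comm_AK {i j : Fin n} (hi : (i : ℕ) + 1 < n) (h1 : (j : ℕ) ≠ i) (h2 : (j : ℕ) ≠ (i : ℕ) + 1)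
    {x y : H × iso B} (hx : x ∈ D.A j) (hy : y ∈ D.K i) : x * y = y * x :=
  (D.injKA i j hi).comm (Subgroup.mem_sup_right hx) (Subgroup.mem_sup_left hy)
    (D.Φ.ss_mm_comm D.hA h1 h2 (D.sndA hx) (D.sndK hi hy))

theorem comm_KK {i k : Fin n} (h : i ≠ k) (hi : (i : ℕ) + 1 < n) (hk : (k : ℕ) + 1 < n)
    {x y : H × iso B} (hx : x ∈ D.K i) (hy : y ∈ D.K k) : x * y = y * x :=
  (D.injKK i k h hi hk).comm (Subgroup.mem_sup_left hx) (Subgroup.mem_sup_right hy)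
    (D.Φ.mm_mm_comm D.hA (D.sndK hi hx) (D.sndK hk hy))

theorem gam_top {m : ℕ} (h : n ≤ m) : D.gam m = ⊥ :=
  le_bot_iff.1 (D.gam_le (fun j hj => by omega) (fun i hi => by omega))

theorem gam_last {m : Fin n} (h : (m : ℕ) + 1 = n) : D.gam (m : ℕ) = D.A m :=
  le_antisymm (D.gam_le (fun j hj => (by rw [show j = m from Fin.ext (by omega)]))
    (fun i hi hi' => by omega)) (D.A_le le_rfl)

theorem gam_step {m : Fin n} (h : (m : ℕ) + 1 < n) :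
    D.gam (m : ℕ) = D.A m ⊔ D.K m ⊔ D.gam ((m : ℕ) + 1) := by
  refine le_antisymm (D.gam_le ?_ ?_) (sup_le (sup_le (D.A_le le_rfl) (D.K_le le_rfl h))
    (D.gam_mono (Nat.le_succ _)))
  · intro j hj
    rcases eq_or_lt_of_le hj with e | e
    · rw [show j = m from Fin.ext e.symm]; exact le_sup_left.trans le_sup_left
    · exact le_sup_of_le_right (D.A_le e)
  · intro i hi hi'
    rcases eq_or_lt_of_le hi with e | e
    · rw [show i = m from Fin.ext e.symm]; exact le_sup_right.trans le_sup_left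
    · exact le_sup_of_le_right (D.K_le e hi')

/-- The statement of the induction. -/
def Ok (m : ℕ) : Prop :=
  Inj (D.gam m) ∧ (D.gam m).map (MonoidHom.snd H (iso B)) = D.Φ.sub m

theorem ok_ge {m : ℕ} (h : n ≤ m) : D.Ok m := by
  refine ⟨fun x hx _ => ?_, ?_⟩
  · rw [D.gam_top h, Subgroup.mem_bot] at hx; exact hx
  · rw [D.gam_top h, Subgroup.map_bot, eq_bot_iff.2 ((D.Φ.sub_antitone h).trans (D.Φ.sub_top D.hA).le)]

theorem ok_last {m : Fin n} (h : (m : ℕ) + 1 = n) : D.Ok (m : ℕ) := by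
  have hn := D.hn
  refine ⟨?_, ?_⟩
  · rw [D.gam_last h]
    exact (D.injAA m ⟨0, by omega⟩ (fun e => by rw [e] at h; simp at h; omega)).mono le_sup_left
  · rw [D.gam_last h, D.mapA]
    refine le_antisymm (D.Φ.ss_le_sub le_rfl) fun g hg l hl => hg l ?_
    have : (l : ℕ) ≠ m := fun e => hl (Fin.ext e)
    omega

theorem stabcomm {m p : Fin n} (hp : (p : ℕ) = (m : ℕ) + 1) (h1 : D.Ok (p : ℕ))
    (h2 : D.Ok ((p : ℕ) + 1)) {g : iso B} (hg : g ∈ D.Φ.sub (p : ℕ))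
    (hge : (g : V ≃ₗ[F] V) (D.Φ.e p) = D.Φ.e p) :
    lf (D.gam (p : ℕ)) g * lf (D.K m) (kg D.hA (D.Φ.e m) (D.Φ.e p)) =
      lf (D.K m) (kg D.hA (D.Φ.e m) (D.Φ.e p)) * lf (D.gam (p : ℕ)) g := by
  have hm : (m : ℕ) + 1 < n := by omega
  set k := lf (D.K m) (kg D.hA (D.Φ.e m) (D.Φ.e p))
  have hkk : kg D.hA (D.Φ.e m) (D.Φ.e p) ∈ D.Φ.mm m := by
    have := D.Φ.kg_e_mem_mm D.hA hp 1
    rwa [one_smul] at this
  have hk : k ∈ D.K m := (lf_spec (D.mapK m hm) hkk).1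
  set C := Subgroup.centralizer ({k} : Set (H × iso B)) ⊓ D.gam (p : ℕ)
  have hmem : ∀ x, x ∈ D.gam (p : ℕ) → x * k = k * x → x ∈ C := fun x hx he =>
    ⟨Subgroup.mem_centralizer_iff.2 (by rintro _ rfl; exact he.symm), hx⟩
  have hle : D.gam ((p : ℕ) + 1) ≤ C := by
    refine D.gam_le (fun j hj x hx => hmem x (D.A_le (by omega) hx) ?_)
      (fun i hi hi' x hx => hmem x (D.K_le (by omega) hi' hx) ?_)
    · exact D.comm_AK hm (by omega) (by omega) hx hk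
    · exact D.comm_KK (fun e => by subst e; omega) hi' hm hx hk
  have hC : ∀ a ∈ C, a * k = k * a := fun a ha =>
    (Subgroup.mem_centralizer_iff.1 ha.1 k rfl).symm
  suffices hgC : g ∈ C.map (MonoidHom.snd H (iso B)) by
    obtain ⟨x, hx, hxg⟩ := hgC
    have he : lf (D.gam (p : ℕ)) g = x :=
      h1.1.eq (lf_spec h1.2 hg).1 hx.2 ((lf_spec h1.2 hg).2.trans hxg.symm)
    rw [he]
    exact hC x hx
  obtain ⟨c, w, g', hw, hg', rfl⟩ := D.Φ.stab_decomp D.hA hg hge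
  have hsub : D.Φ.sub ((p : ℕ) + 1) ≤ C.map (MonoidHom.snd H (iso B)) := by
    rw [← h2.2]; exact Subgroup.map_mono hle
  refine mul_mem (mul_mem ?_ ?_) (hsub hg')
  · obtain ⟨x, hx, hxe⟩ : tvG D.hA (D.Φ.e p) c ∈ (D.A p).map (MonoidHom.snd H (iso B)) := by
      rw [D.mapA]; exact D.Φ.tv_e_mem_ss D.hA p c
    refine ⟨x, hmem x (D.A_le le_rfl hx) ?_, hxe⟩
    refine (D.injKA m p hm).comm (Subgroup.mem_sup_right hx) (Subgroup.mem_sup_left hk) ?_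
    refine D.Φ.mm_mm_comm D.hA (i := m) ?_ (D.sndK hm hk)
    rw [show x.2 = _ from hxe]
    exact D.Φ.tv_e_mem_mm D.hA m p (Or.inr hp) c
  · by_cases hw0 : w = 0
    · rw [hw0, kg_zero]; exact one_mem _
    have hpn : (p : ℕ) + 1 < n := by
      by_contra hc
      exact hw0 (D.Φ.perp_all D.hA (D.Φ.perp_mono (by omega) hw))
    set q : Fin n := ⟨(p : ℕ) + 1, hpn⟩
    obtain ⟨g1, hg1, rfl⟩ := D.Φ.exists_sub_map D.hB D.hA (D.Φ.perp_e (le_refl (q : ℕ))) hw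
      (D.Φ.e_ne_zero q) hw0
    rw [show kg D.hA (D.Φ.e p) ((g1 : V ≃ₗ[F] V) (D.Φ.e q)) =
        g1 * kg D.hA (D.Φ.e p) (D.Φ.e q) * g1⁻¹ by
      rw [kg_conj, (hg1 p (show (p : ℕ) < (p : ℕ) + 1 by omega)).1]]
    refine mul_mem (mul_mem (hsub hg1) ?_) (inv_mem (hsub hg1))
    have hq : kg D.hA (D.Φ.e p) (D.Φ.e q) ∈ D.Φ.mm p := by
      have := D.Φ.kg_e_mem_mm D.hA (i := p) (j := q) rfl 1
      rwa [one_smul] at this
    obtain ⟨x, hx, hxe⟩ : kg D.hA (D.Φ.e p) (D.Φ.e q) ∈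
        (D.K p).map (MonoidHom.snd H (iso B)) := by rw [D.mapK p hpn]; exact hq
    exact ⟨x, hmem x (D.K_le le_rfl hpn hx)
      (D.comm_KK (fun e => by subst e; omega) hpn hm hx hk), hxe⟩

theorem ok_step {m p : Fin n} (hp : (p : ℕ) = (m : ℕ) + 1) (h1 : D.Ok (p : ℕ))
    (h2 : D.Ok ((p : ℕ) + 1)) : D.Ok (m : ℕ) := by
  have hm : (m : ℕ) + 1 < n := by omega
  let N : Node B n H :=
    { hA := D.hA, hB := D.hB, Φ := D.Φ, m := m, p := p, hp := hp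
      A0 := D.A m, K0 := D.K m, A1 := D.A p, R := D.gam (p : ℕ)
      mapA0 := D.mapA m, mapK0 := D.mapK m hm, mapA1 := D.mapA p, mapR := h1.2
      A1_le := D.A_le le_rfl, injR := h1.1
      inj00 := D.injKA m m hm, inj01 := D.injKA m p hm
      commA0 := fun a ha r hr => by
        have hle : D.gam (p : ℕ) ≤ Subgroup.centralizer (D.A m : Set (H × iso B)) := by
          refine D.gam_le (fun j hj x hx => ?_) (fun i hi hi' x hx => ?_) <;>
            refine Subgroup.mem_centralizer_iff.2 fun y hy => ?_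
          · exact D.comm_AA (fun e => by subst e; omega) hy hx
          · exact D.comm_AK hi' (by omega) (by omega) hy hx
        exact Subgroup.mem_centralizer_iff.1 (hle hr) a ha
      hF := D.hF.imp id fun hT q hq => by
        obtain ⟨g, hg, h, hh, e⟩ := hT m p q hp hq
        have hle : D.A p ⊔ D.A q ⊔ D.K p ≤ D.gam (p : ℕ) :=
          sup_le (sup_le (D.A_le le_rfl) (D.A_le (by omega))) (D.K_le le_rfl (by omega))
        exact ⟨g, hle hg, h, hle hh, e⟩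
      stabcomm := fun g hg hge => D.stabcomm hp h1 h2 hg hge }
  have htop : D.gam (m : ℕ) = N.top := by
    rw [D.gam_step hm]
    show _ = D.A m ⊔ D.K m ⊔ D.gam (p : ℕ)
    rw [hp]
  unfold Ok
  rw [htop]
  exact ⟨N.inj_top, N.map_top⟩

theorem ok_all : ∀ k m : ℕ, n ≤ m + k → D.Ok m := by
  intro k
  induction k with
  | zero => intro m h; exact D.ok_ge (by omega)
  | succ k ih =>
    intro m h
    by_cases hm : n ≤ m + k
    · exact ih m hm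
    by_cases hlast : m + 1 = n
    · exact D.ok_last (m := ⟨m, by omega⟩) hlast
    exact D.ok_step (m := ⟨m, by omega⟩) (p := ⟨m + 1, by omega⟩) rfl (ih _ (by simp; omega))
      (ih _ (by simp; omega))

theorem exists_hom : ∃ φ : iso B →* H,
    (∀ j, ∀ x ∈ D.A j, φ x.2 = x.1) ∧
      (∀ i : Fin n, (i : ℕ) + 1 < n → ∀ x ∈ D.K i, φ x.2 = x.1) := by
  obtain ⟨h1, h2⟩ := D.ok_all n 0 (by omega)
  rw [D.Φ.sub_zero] at h2
  obtain ⟨φ, hφ⟩ := exists_hom_lift h1 h2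
  exact ⟨φ, fun j x hx => hφ x (D.A_le (Nat.zero_le _) hx),
    fun i hi x hx => hφ x (D.K_le (Nat.zero_le _) hi hx)⟩

theorem hom_unique {φ ψ : iso B →* H}
    (hA' : ∀ j, ∀ g ∈ D.Φ.ss j, φ g = ψ g)
    (hK' : ∀ i : Fin n, (i : ℕ) + 1 < n → ∀ g ∈ D.Φ.mm i, φ g = ψ g) : φ = ψ := by
  obtain ⟨-, h2⟩ := D.ok_all n 0 (by omega)
  rw [D.Φ.sub_zero] at h2
  have hle : D.gam 0 ≤ (φ.eqLocus ψ).comap (MonoidHom.snd H (iso B)) :=
    D.gam_le (fun j _ x hx => hA' j _ (D.sndA hx)) (fun i _ hi x hx => hK' i hi _ (D.sndK hi hx))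
  refine MonoidHom.ext fun g => ?_
  obtain ⟨x, hx, rfl⟩ := h2.ge (Subgroup.mem_top g)
  exact hle hx

end Data

end Cfsg.Lib.Recog.SpAmalgam
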