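import Cfsg.Agent.Lib.Recog.SpAmalgam.Main

/-!
The matrix group as the isometry group of the standard form, and graphs of homomorphisms.
-/

set_option autoImplicit false
set_option linter.unusedSectionVars false

namespace Cfsg.Lib.Recog.SpAmalgam

open Module Matrix
open Cfsg.Lib.Linear.Symp

section Graph

variable {G₀ G H : Type*} [Group G₀] [Group G] [Group H] (E : G₀ ≃* G)

/-- The graph of a homomorphism defined on a subgroup. -/
def graph (S : Subgroup G₀) (σ : ↥S →* H) : Subgroup (H × G) :=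
  (σ.prod (E.toMonoidHom.comp S.subtype)).range

theorem mem_graph {S : Subgroup G₀} (σ : ↥S →* H) {g : G₀} (hg : g ∈ S) :
    (σ ⟨g, hg⟩, E g) ∈ graph E S σ := ⟨⟨g, hg⟩, rfl⟩

theorem map_graph (S : Subgroup G₀) (σ : ↥S →* H) :
    (graph E S σ).map (MonoidHom.snd H G) = S.map E.toMonoidHom := by
  ext y
  constructor
  · rintro ⟨_, ⟨x, rfl⟩, rfl⟩; exact ⟨x, x.2, rfl⟩
  · rintro ⟨x, hx, rfl⟩; exact ⟨_, mem_graph E σ hx, rfl⟩

theorem inj_graph_sup {S S' : Subgroup G₀} (σ : ↥S →* H) (σ' : ↥S' →* H) (Ψ : ↥(S ⊔ S') →* H)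
    (h : ∀ (g : G₀) (hg : g ∈ S), Ψ ⟨g, Subgroup.mem_sup_left hg⟩ = σ ⟨g, hg⟩)
    (h' : ∀ (g : G₀) (hg : g ∈ S'), Ψ ⟨g, Subgroup.mem_sup_right hg⟩ = σ' ⟨g, hg⟩) :
    Inj (graph E S σ ⊔ graph E S' σ') := by
  have hle : graph E S σ ⊔ graph E S' σ' ≤ graph E (S ⊔ S') Ψ := by
    refine sup_le ?_ ?_ <;> rintro _ ⟨⟨g, hg⟩, rfl⟩
    · exact ⟨⟨g, Subgroup.mem_sup_left hg⟩, Prod.ext (h g hg) rfl⟩
    · exact ⟨⟨g, Subgroup.mem_sup_right hg⟩, Prod.ext (h' g hg) rfl⟩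
  refine Inj.mono ?_ hle
  rintro _ ⟨x, rfl⟩ hx
  have : x = 1 := Subtype.ext (E.map_eq_one_iff.1 hx)
  rw [this, map_one]

end Graph

variable {F : Type*} [Field F] {n : ℕ}

theorem spB_single (a : Fin n ⊕ Fin n) (v : Fin n ⊕ Fin n → F) :
    spB n F (Pi.single a 1) v = Sum.elim (fun i => -v (Sum.inr i)) (fun i => v (Sum.inl i)) a := by
  rw [spB_apply, Cfsg.sympForm, J_mulVec, single_one_dotProduct]

variable (F n)

/-- The standard frame. -/
noncomputable def stdFrame : Frame (spB n F) n where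
  e k := Pi.single (Sum.inl k) 1
  f k := -Pi.single (Sum.inr k) 1
  ee i j := by rw [spB_single]; simp
  ff i j := by simp [spB_single]
  ef i j := by
    rw [spB_single]
    by_cases h : i = j <;> simp [h, Pi.single_apply]
  sep x hx := by
    have hA := spB_isAlt n F
    funext a
    rcases a with k | k
    · have h := (hx k).2
      rw [map_neg, neg_eq_zero, skew hA (Pi.single (Sum.inr k) (1 : F)) x, spB_single, neg_eq_zero] at h
      simpa using h
    · have h := (hx k).1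
      rw [skew hA (Pi.single (Sum.inl k) (1 : F)) x, spB_single, neg_eq_zero] at h
      simpa using h

variable {F n}

theorem closure_fix_ss (j : Fin n) :
    (Subgroup.closure {A : ↥(Matrix.symplecticGroup (Fin n) F) | ∀ k : Fin n, k ≠ j →
      ((A : ↥(Matrix.symplecticGroup (Fin n) F)) : Matrix (Fin n ⊕ Fin n) (Fin n ⊕ Fin n) F).mulVec
        (Pi.single (Sum.inl k) (1 : F)) = (Pi.single (Sum.inl k) (1 : F)) ∧
      ((A : ↥(Matrix.symplecticGroup (Fin n) F)) : Matrix (Fin n ⊕ Fin n) (Fin n ⊕ Fin n) F).mulVec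
        (Pi.single (Sum.inr k) (1 : F)) = (Pi.single (Sum.inr k) (1 : F))}).map
      (spEquiv : _ ≃* iso (spB n F)).toMonoidHom = (stdFrame F n).ss j := by
  have key : ∀ A : ↥(Matrix.symplecticGroup (Fin n) F),
      spEquiv A ∈ (stdFrame F n).ss j ↔ ∀ k : Fin n, k ≠ j →
      (A : Matrix (Fin n ⊕ Fin n) (Fin n ⊕ Fin n) F) *ᵥ (Pi.single (Sum.inl k) (1 : F)) =
        (Pi.single (Sum.inl k) (1 : F)) ∧
      (A : Matrix (Fin n ⊕ Fin n) (Fin n ⊕ Fin n) F) *ᵥ (Pi.single (Sum.inr k) (1 : F)) =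
        (Pi.single (Sum.inr k) (1 : F)) := by
    intro A
    show (∀ k, k ≠ j → _ ∧ _) ↔ _
    simp only [stdFrame, spEquiv_apply, mulVec_neg, neg_inj]
  refine le_antisymm (Subgroup.map_le_iff_le_comap.2 ((Subgroup.closure_le _).2 fun A hA =>
    (key A).2 hA)) fun g hg => ?_
  refine ⟨spEquiv.symm g, Subgroup.subset_closure ((key _).1 (by simpa using hg)), by simp⟩

theorem closure_fix_mm (i : Fin n) :
    (Subgroup.closure {A : ↥(Matrix.symplecticGroup (Fin n) F) |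
      (∀ k : Fin n, ((A : ↥(Matrix.symplecticGroup (Fin n) F)) : Matrix (Fin n ⊕ Fin n) (Fin n ⊕ Fin n) F).mulVec
        (Pi.single (Sum.inl k) (1 : F)) = (Pi.single (Sum.inl k) (1 : F))) ∧
        ∀ k : Fin n, (k : ℕ) ≠ i → (k : ℕ) ≠ (i : ℕ) + 1 →
      ((A : ↥(Matrix.symplecticGroup (Fin n) F)) : Matrix (Fin n ⊕ Fin n) (Fin n ⊕ Fin n) F).mulVec
        (Pi.single (Sum.inr k) (1 : F)) = (Pi.single (Sum.inr k) (1 : F))}).map
      (spEquiv : _ ≃* iso (spB n F)).toMonoidHom = (stdFrame F n).mm i := by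
  have key : ∀ A : ↥(Matrix.symplecticGroup (Fin n) F),
      spEquiv A ∈ (stdFrame F n).mm i ↔
      (∀ k : Fin n, (A : Matrix (Fin n ⊕ Fin n) (Fin n ⊕ Fin n) F) *ᵥ (Pi.single (Sum.inl k) (1 : F)) =
        (Pi.single (Sum.inl k) (1 : F))) ∧ ∀ k : Fin n, (k : ℕ) ≠ i → (k : ℕ) ≠ (i : ℕ) + 1 →
      (A : Matrix (Fin n ⊕ Fin n) (Fin n ⊕ Fin n) F) *ᵥ (Pi.single (Sum.inr k) (1 : F)) =
        (Pi.single (Sum.inr k) (1 : F)) := by
    intro A
    show ((∀ k, _) ∧ ∀ k, _) ↔ _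
    simp only [stdFrame, spEquiv_apply, mulVec_neg, neg_inj]
  refine le_antisymm (Subgroup.map_le_iff_le_comap.2 ((Subgroup.closure_le _).2 fun A hA =>
    (key A).2 hA)) fun g hg => ?_
  refine ⟨spEquiv.symm g, Subgroup.subset_closure ((key _).1 (by simpa using hg)), by simp⟩

end Cfsg.Lib.Recog.SpAmalgam
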