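import Cfsg.Agent.Lib.Recog.SpAmalgam.Step

/-!
The big-cell argument for one step of the amalgam.
-/

set_option autoImplicit false
set_option linter.unusedSectionVars false

namespace Cfsg.Lib.Recog.SpAmalgam

open Module
open Cfsg.Lib.Linear.Symp

variable {F V H : Type*} [Field F] [AddCommGroup V] [Module F V] [FiniteDimensional F V] [Group H]

namespace Node

variable {B : LinearMap.BilinForm F V} {n : ℕ} (N : Node B n H)

theorem L_inv {g : iso B} (hg : g ∈ N.Φ.sub (N.p : ℕ)) : (N.L g)⁻¹ = N.L g⁻¹ :=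
  inv_eq_of_mul_eq_one_right (by rw [← N.L_mul hg (inv_mem hg), mul_inv_cancel, N.L_one])

theorem w0_conj_z (c : F) : N.w0 * N.z c * N.w0⁻¹ = N.zm c :=
  N.injA0.eq (mul_mem (mul_mem N.w0_mem (N.z_spec c).1) (inv_mem N.w0_mem)) (N.zm_spec c).1
    (by rw [Prod.snd_mul, Prod.snd_mul, Prod.snd_inv, (N.z_spec c).2, (N.zm_spec c).2, tvG_conj, N.w0_e])

theorem w0_conj_zm (c : F) : N.w0 * N.zm c * N.w0⁻¹ = N.z c :=
  N.injA0.eq (mul_mem (mul_mem N.w0_mem (N.zm_spec c).1) (inv_mem N.w0_mem)) (N.z_spec c).1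
    (by rw [Prod.snd_mul, Prod.snd_mul, Prod.snd_inv, (N.z_spec c).2, (N.zm_spec c).2, tvG_conj, N.w0_f,
      show -N.e = (-1 : F) • N.e by simp, tvG_smul]; simp)

theorem w0_L {g : iso B} (hg : g ∈ N.Φ.sub (N.p : ℕ)) : N.w0 * N.L g = N.L g * N.w0 :=
  N.L_comm hg N.w0_mem

theorem w0_fix {v : V} (hv : N.W v) : ((N.w0).2 : V ≃ₗ[F] V) v = v :=
  N.W_fix (snd_mem N.mapA0 N.w0_mem) hv

theorem kam_zero : N.kam (0 : V) = 1 := by simp [kam, N.kap_zero]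

theorem kam_snd {v : V} (hv : N.W v) : (N.kam v).2 = kg N.hA N.f v := by
  rw [kam, Prod.snd_mul, Prod.snd_mul, Prod.snd_inv, N.kap_snd hv, kg_conj, N.w0_e, N.w0_fix hv]

theorem kam_conj {g : iso B} (hg : g ∈ N.Φ.sub (N.p : ℕ)) {v : V} (hv : N.W v) :
    N.L g * N.kam v * (N.L g)⁻¹ = N.kam ((g : V ≃ₗ[F] V) v) := by
  rw [kam, kam, ← N.kap_conj hg hv]
  calc _ = (N.L g * N.w0) * N.kap v * (N.L g * N.w0)⁻¹ := by group
    _ = (N.w0 * N.L g) * N.kap v * (N.w0 * N.L g)⁻¹ := by rw [N.w0_L hg]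
    _ = _ := by group

theorem L_kap {g : iso B} (hg : g ∈ N.Φ.sub (N.p : ℕ)) {v : V} (hv : N.W v) :
    N.L g * N.kap v = N.kap ((g : V ≃ₗ[F] V) v) * N.L g :=
  mul_inv_eq_iff_eq_mul.1 (N.kap_conj hg hv)

theorem L_kam {g : iso B} (hg : g ∈ N.Φ.sub (N.p : ℕ)) {v : V} (hv : N.W v) :
    N.L g * N.kam v = N.kam ((g : V ≃ₗ[F] V) v) * N.L g :=
  mul_inv_eq_iff_eq_mul.1 (N.kam_conj hg hv)

theorem L_z {g : iso B} (hg : g ∈ N.Φ.sub (N.p : ℕ)) (c : F) : N.L g * N.z c = N.z c * N.L g :=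
  (N.L_comm hg (N.z_spec c).1).symm

theorem L_zm {g : iso B} (hg : g ∈ N.Φ.sub (N.p : ℕ)) (c : F) : N.L g * N.zm c = N.zm c * N.L g :=
  (N.L_comm hg (N.zm_spec c).1).symm

theorem kam_mul {v w : V} (hv : N.W v) (hw : N.W w) :
    N.kam v * N.kam w = N.zm (B w v) * N.kam (v + w) := by
  rw [kam, kam, kam, ← N.w0_conj_z (B w v)]
  calc _ = N.w0 * (N.kap v * N.kap w) * N.w0⁻¹ := by group
    _ = N.w0 * (N.z (B w v) * N.kap (v + w)) * N.w0⁻¹ := by rw [N.kap_mul hv hw]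
    _ = _ := by group

theorem zm_kam (c : F) {v : V} (hv : N.W v) : N.zm c * N.kam v = N.kam v * N.zm c := by
  rw [kam, ← N.w0_conj_z c]
  calc _ = N.w0 * (N.z c * N.kap v) * N.w0⁻¹ := by group
    _ = N.w0 * (N.kap v * N.z c) * N.w0⁻¹ := by rw [N.z_kap c hv]
    _ = _ := by group

theorem w0_kam {v : V} (hv : N.W v) : N.w0 * N.kam v * N.w0⁻¹ = N.kap (-v) := by
  have h := N.A0_conj (mul_mem N.w0_mem N.w0_mem) (t := -1)
    (by rw [Prod.snd_mul, mul_apply, N.w0_e, N.w0_f, neg_one_smul]) hv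
  rw [neg_one_smul] at h
  rw [kam, ← h]
  group

theorem kap_inv {v : V} (hv : N.W v) : (N.kap v)⁻¹ = N.kap (-v) :=
  inv_eq_of_mul_eq_one_right (by
    rw [N.kap_mul hv (N.W_neg hv), add_neg_cancel, N.kap_zero, mul_one]
    simp [N.hA.self_eq_zero, N.z_zero])

/-- Diagonal elements of the new pair. -/
def Dg (d : H × iso B) (t : F) : Prop :=
  d ∈ N.A0 ∧ t ≠ 0 ∧ (d.2 : V ≃ₗ[F] V) N.e = t • N.e ∧ (d.2 : V ≃ₗ[F] V) N.f = t⁻¹ • N.f

theorem Dg_one : N.Dg 1 1 := ⟨one_mem _, one_ne_zero, by simp [one_apply], by simp [one_apply]⟩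

theorem Dg_mul {d d' : H × iso B} {t t' : F} (h : N.Dg d t) (h' : N.Dg d' t') :
    N.Dg (d * d') (t * t') := by
  obtain ⟨h1, h2, h3, h4⟩ := h
  obtain ⟨k1, k2, k3, k4⟩ := h'
  refine ⟨mul_mem h1 k1, mul_ne_zero h2 k2, ?_, ?_⟩
  · rw [Prod.snd_mul, mul_apply, k3, map_smul, h3, smul_smul, mul_comm]
  · rw [Prod.snd_mul, mul_apply, k4, map_smul, h4, smul_smul, mul_inv, mul_comm]

theorem Dg_z {d : H × iso B} {t : F} (h : N.Dg d t) (c : F) :
    d * N.z c = N.z (t * t * c) * d := by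
  refine N.injA0.eq (mul_mem h.1 (N.z_spec c).1) (mul_mem (N.z_spec _).1 h.1) ?_
  rw [Prod.snd_mul, Prod.snd_mul, (N.z_spec c).2, (N.z_spec _).2, ← tvG_smul, ← h.2.2.1, ← tvG_conj]
  group

theorem Dg_zm {d : H × iso B} {t : F} (h : N.Dg d t) (c : F) :
    d * N.zm c = N.zm (t⁻¹ * t⁻¹ * c) * d := by
  refine N.injA0.eq (mul_mem h.1 (N.zm_spec c).1) (mul_mem (N.zm_spec _).1 h.1) ?_
  rw [Prod.snd_mul, Prod.snd_mul, (N.zm_spec c).2, (N.zm_spec _).2, ← tvG_smul, ← h.2.2.2, ← tvG_conj]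
  group

theorem Dg_kap {d : H × iso B} {t : F} (h : N.Dg d t) {v : V} (hv : N.W v) :
    d * N.kap v = N.kap (t • v) * d :=
  mul_inv_eq_iff_eq_mul.1 (N.A0_conj h.1 h.2.2.1 hv)

theorem Dg_kam {d : H × iso B} {t : F} (h : N.Dg d t) {v : V} (hv : N.W v) :
    d * N.kam v = N.kam (t⁻¹ • v) * d := by
  have hm : N.w0⁻¹ * d * N.w0 ∈ N.A0 := mul_mem (mul_mem (inv_mem N.w0_mem) h.1) N.w0_mem
  have hfe : (((N.w0)⁻¹).2 : V ≃ₗ[F] V) N.f = N.e := by
    conv_lhs => rw [← N.w0_e]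
    rw [← mul_apply, ← Prod.snd_mul, inv_mul_cancel]; rfl
  have h' := N.A0_conj hm (t := t⁻¹)
    (by rw [Prod.snd_mul, mul_apply, Prod.snd_mul, mul_apply, N.w0_e, h.2.2.2, map_smul, hfe]) hv
  rw [kam, kam, ← h']
  group

theorem L_tv_K0 (s : F) : N.L (tvG N.hA (N.Φ.e N.p) s) ∈ N.K0 := by
  have hs := N.Φ.tv_e_mem_ss N.hA N.p s
  have hm : tvG N.hA (N.Φ.e N.p) s ∈ N.Φ.mm N.m := N.Φ.tv_e_mem_mm N.hA _ _ (Or.inr N.hp) s
  have h := lf_spec N.mapK0 hm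
  rw [N.inj01.eq (Subgroup.mem_sup_right (N.L_A1 hs)) (Subgroup.mem_sup_left h.1)
    ((N.L_spec (N.Φ.ss_le_sub le_rfl hs)).2.trans h.2.symm)]
  exact h.1

theorem R1 (s : F) {v : V} (hv : N.W v) :
    N.zm s * N.kap v = N.L (tvG N.hA v s) * N.kap v * N.kam (s • v) * N.zm s := by
  by_cases hv0 : v = 0
  · have h0 : tvG N.hA (0 : V) s = 1 := iso_ext fun x => by simp [tvG_apply, one_apply]
    rw [hv0, h0, N.L_one, smul_zero, N.kap_zero, N.kam_zero]; simp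
  · obtain ⟨g, hg, rfl⟩ := N.exists_map hv hv0
    set P := N.Φ.e N.p with hP
    have hWP : N.W P := N.W_P
    have hsub := N.Φ.tv_mem_sub N.hA hWP s
    have key : N.zm s * N.kap P * (N.zm s)⁻¹ = N.L (tvG N.hA P s) * N.kap P * N.kam (s • P) := by
      have m1 : N.kap P ∈ N.K0 := by
        have := N.kap_smul_P 1; rwa [one_smul] at this
      have m2 : N.kam (s • P) ∈ N.K0 ⊔ N.A0 :=
        mul_mem (mul_mem (Subgroup.mem_sup_right N.w0_mem) (Subgroup.mem_sup_left (N.kap_smul_P s)))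
          (inv_mem (Subgroup.mem_sup_right N.w0_mem))
      refine N.inj00.eq (mul_mem (mul_mem (Subgroup.mem_sup_right (N.zm_spec s).1)
        (Subgroup.mem_sup_left m1)) (inv_mem (Subgroup.mem_sup_right (N.zm_spec s).1)))
        (mul_mem (mul_mem (Subgroup.mem_sup_left (N.L_tv_K0 s)) (Subgroup.mem_sup_left m1)) m2) ?_
      rw [Prod.snd_mul, Prod.snd_mul, Prod.snd_inv, Prod.snd_mul, Prod.snd_mul, (N.zm_spec s).2,
        (N.L_spec hsub).2, N.kap_snd hWP, N.kam_snd (N.W_smul s hWP), kg_conj,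
        tvG_fix N.hA s (N.Bvf hWP), tvG_apply, N.Bef, mul_one,
        kg_add_smul N.hA N.Bef (N.Be hWP) (N.Bf hWP)]
    have key' := mul_inv_eq_iff_eq_mul.1 key
    have hT : N.L (tvG N.hA ((g : V ≃ₗ[F] V) P) s) = N.L g * N.L (tvG N.hA P s) * (N.L g)⁻¹ := by
      rw [← tvG_conj, N.L_mul (mul_mem hg hsub) (inv_mem hg), N.L_mul hg hsub, N.L_inv hg]
    rw [hT, ← map_smul, ← N.kap_conj hg hWP, ← N.kam_conj hg (N.W_smul s hWP)]
    have hc := N.L_zm hg s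
    calc _ = (N.zm s * N.L g) * N.kap P * (N.L g)⁻¹ := by group
      _ = N.L g * (N.zm s * N.kap P) * (N.L g)⁻¹ := by rw [← hc]; group
      _ = N.L g * (N.L (tvG N.hA P s) * N.kap P * N.kam (s • P) * N.zm s) * (N.L g)⁻¹ := by rw [key']
      _ = N.L g * (N.L (tvG N.hA P s) * N.kap P * N.kam (s • P)) *
          (N.zm s * (N.L g)⁻¹) := by group
      _ = N.L g * (N.L (tvG N.hA P s) * N.kap P * N.kam (s • P)) *
          ((N.L g)⁻¹ * N.zm s) := by rw [N.L_inv hg, N.L_zm (inv_mem hg) s]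
      _ = _ := by group

theorem R1w (s : F) {v : V} (hv : N.W v) :
    N.z s * N.kam v = N.L (tvG N.hA v s) * N.kam v * N.kap (-(s • v)) * N.z s := by
  have h := congrArg (fun x => N.w0 * x * N.w0⁻¹) (N.R1 s hv)
  have hk : N.w0 * N.kap v * N.w0⁻¹ = N.kam v := rfl
  rw [← N.w0_conj_zm, ← N.w0_kam (N.W_smul s hv), ← hk]
  have hL := N.w0_L (N.Φ.tv_mem_sub N.hA hv s)
  calc _ = N.w0 * (N.zm s * N.kap v) * N.w0⁻¹ := by group
    _ = N.w0 * (N.L (tvG N.hA v s) * N.kap v * N.kam (s • v) * N.zm s) * N.w0⁻¹ := h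
    _ = (N.w0 * N.L (tvG N.hA v s)) * N.kap v * N.kam (s • v) * N.zm s * N.w0⁻¹ := by group
    _ = _ := by rw [hL]; group

/-- The elements of the parabolic part. -/
def IsA (x : H × iso B) : Prop :=
  ∃ g ∈ N.Φ.sub (N.p : ℕ), ∃ (c : F) (v : V) (d : H × iso B) (t : F),
    N.W v ∧ N.Dg d t ∧ x = N.L g * N.z c * N.kap v * d

/-- The elements in normal form. -/
def Good (x : H × iso B) : Prop :=
  ∃ (c : F) (v : V) (b : F) (u : V) (a : H × iso B),
    N.W v ∧ N.W u ∧ N.IsA a ∧ x = N.z c * N.kap v * (N.zm b * N.kam u) * a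

theorem IsA_one : N.IsA 1 :=
  ⟨1, one_mem _, 0, 0, 1, 1, N.W_zero, N.Dg_one, by simp [N.L_one, N.z_zero, N.kap_zero]⟩

theorem IsA_L {h : iso B} (hh : h ∈ N.Φ.sub (N.p : ℕ)) {x : H × iso B} (hx : N.IsA x) :
    N.IsA (N.L h * x) := by
  obtain ⟨g, hg, c, v, d, t, hv, hd, rfl⟩ := hx
  exact ⟨h * g, mul_mem hh hg, c, v, d, t, hv, hd, by rw [N.L_mul hh hg]; group⟩

theorem IsA_z (c' : F) {x : H × iso B} (hx : N.IsA x) : N.IsA (N.z c' * x) := by
  obtain ⟨g, hg, c, v, d, t, hv, hd, rfl⟩ := hx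
  refine ⟨g, hg, c' + c, v, d, t, hv, hd, ?_⟩
  rw [N.z_add, ← mul_assoc (N.L g), N.L_z hg c']
  group

theorem IsA_kap {w : V} (hw : N.W w) {x : H × iso B} (hx : N.IsA x) : N.IsA (N.kap w * x) := by
  obtain ⟨g, hg, c, v, d, t, hv, hd, rfl⟩ := hx
  have hw' := N.W_map (inv_mem hg) hw
  refine ⟨g, hg, c + B v (((g⁻¹ : iso B) : V ≃ₗ[F] V) w), ((g⁻¹ : iso B) : V ≃ₗ[F] V) w + v, d, t,
    N.W_add hw' hv, hd, ?_⟩
  have h1 := N.L_kap hg hw'
  rw [← mul_apply, mul_inv_cancel, one_apply] at h1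
  have h2 := N.z_kap c hw'
  calc _ = (N.kap w * N.L g) * N.z c * N.kap v * d := by group
    _ = N.L g * (N.kap (((g⁻¹ : iso B) : V ≃ₗ[F] V) w) * N.z c) * N.kap v * d := by rw [← h1]; group
    _ = N.L g * N.z c * (N.kap (((g⁻¹ : iso B) : V ≃ₗ[F] V) w) * N.kap v) * d := by rw [← h2]; group
    _ = _ := by rw [N.kap_mul hw' hv, N.z_add]; group

theorem IsA_Dg {d' : H × iso B} {t' : F} (hd' : N.Dg d' t') {x : H × iso B} (hx : N.IsA x) :
    N.IsA (d' * x) := by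
  obtain ⟨g, hg, c, v, d, t, hv, hd, rfl⟩ := hx
  refine ⟨g, hg, t' * t' * c, t' • v, d' * d, t' * t, N.W_smul _ hv, N.Dg_mul hd' hd, ?_⟩
  calc _ = (d' * N.L g) * N.z c * N.kap v * d := by group
    _ = N.L g * (d' * N.z c) * N.kap v * d := by rw [N.L_comm hg hd'.1]; group
    _ = N.L g * N.z (t' * t' * c) * (d' * N.kap v) * d := by rw [N.Dg_z hd']; group
    _ = _ := by rw [N.Dg_kap hd' hv]; group

theorem IsA_mul {x y : H × iso B} (hx : N.IsA x) (hy : N.IsA y) : N.IsA (x * y) := by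
  obtain ⟨g, hg, c, v, d, t, hv, hd, rfl⟩ := hx
  simp only [mul_assoc]
  exact N.IsA_L hg (N.IsA_z c (N.IsA_kap hv (N.IsA_Dg hd hy)))

theorem Good_of_IsA {a : H × iso B} (ha : N.IsA a) : N.Good a :=
  ⟨0, 0, 0, 0, a, N.W_zero, N.W_zero, ha,
    by simp [N.z_zero, N.zm_zero, N.kap_zero, N.kam_zero]⟩

theorem Good_z (c' : F) {x : H × iso B} (hx : N.Good x) : N.Good (N.z c' * x) := by
  obtain ⟨c, v, b, u, a, hv, hu, ha, rfl⟩ := hx
  exact ⟨c' + c, v, b, u, a, hv, hu, ha, by rw [N.z_add]; group⟩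

theorem Good_kap {w : V} (hw : N.W w) {x : H × iso B} (hx : N.Good x) : N.Good (N.kap w * x) := by
  obtain ⟨c, v, b, u, a, hv, hu, ha, rfl⟩ := hx
  refine ⟨c + B v w, w + v, b, u, a, N.W_add hw hv, hu, ha, ?_⟩
  calc _ = (N.kap w * N.z c) * N.kap v * (N.zm b * N.kam u) * a := by group
    _ = N.z c * (N.kap w * N.kap v) * (N.zm b * N.kam u) * a := by rw [← N.z_kap c hw]; group
    _ = _ := by rw [N.kap_mul hw hv, N.z_add]; group

theorem Good_L {g : iso B} (hg : g ∈ N.Φ.sub (N.p : ℕ)) {x : H × iso B} (hx : N.Good x) :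
    N.Good (N.L g * x) := by
  obtain ⟨c, v, b, u, a, hv, hu, ha, rfl⟩ := hx
  refine ⟨c, _, b, _, _, N.W_map hg hv, N.W_map hg hu, N.IsA_L hg ha, ?_⟩
  calc _ = (N.L g * N.z c) * N.kap v * N.zm b * N.kam u * a := by group
    _ = N.z c * (N.L g * N.kap v) * N.zm b * N.kam u * a := by rw [N.L_z hg]; group
    _ = N.z c * N.kap ((g : V ≃ₗ[F] V) v) * (N.L g * N.zm b) * N.kam u * a := by
        rw [N.L_kap hg hv]; group
    _ = N.z c * N.kap ((g : V ≃ₗ[F] V) v) * N.zm b * (N.L g * N.kam u) * a := by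
        rw [N.L_zm hg]; group
    _ = _ := by rw [N.L_kam hg hu]; group

theorem swap_zm (s c : F) (h : 1 - c * s ≠ 0) : ∃ (c1 s1 : F) (d : H × iso B) (t : F),
    N.Dg d t ∧ N.zm s * N.z c = N.z c1 * N.zm s1 * d := by
  refine ⟨c / (1 - c * s), s * (1 - c * s),
    (N.zm (s * (1 - c * s)))⁻¹ * (N.z (c / (1 - c * s)))⁻¹ * N.zm s * N.z c, (1 - c * s)⁻¹,
    ⟨?_, inv_ne_zero h, ?_, ?_⟩, by group⟩
  · exact mul_mem (mul_mem (mul_mem (inv_mem (N.zm_spec _).1) (inv_mem (N.z_spec _).1))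
      (N.zm_spec _).1) (N.z_spec _).1
  all_goals
    have h' : 1 - s * c ≠ 0 := by rwa [mul_comm] at h
    rw [N.zm_inv, N.z_inv]
    simp only [Prod.snd_mul, mul_apply, (N.z_spec _).2, (N.zm_spec _).2, tvG_apply, map_add,
      map_smul, LinearMap.add_apply, LinearMap.smul_apply, smul_eq_mul, N.Bee, N.Bef, N.Bfe, N.Bff]
    match_scalars <;> field_simp <;> ring

theorem swap_z (δ b : F) (h : 1 - δ * b ≠ 0) : ∃ (b1 δ1 : F) (d : H × iso B) (t : F),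
    N.Dg d t ∧ N.z δ * N.zm b = N.zm b1 * N.z δ1 * d := by
  refine ⟨b / (1 - δ * b), δ * (1 - δ * b),
    (N.z (δ * (1 - δ * b)))⁻¹ * (N.zm (b / (1 - δ * b)))⁻¹ * N.z δ * N.zm b, 1 - δ * b,
    ⟨?_, h, ?_, ?_⟩, by group⟩
  · exact mul_mem (mul_mem (mul_mem (inv_mem (N.z_spec _).1) (inv_mem (N.zm_spec _).1))
      (N.z_spec _).1) (N.zm_spec _).1
  all_goals
    have h' : 1 - b * δ ≠ 0 := by rwa [mul_comm] at h
    rw [N.zm_inv, N.z_inv]
    simp only [Prod.snd_mul, mul_apply, (N.z_spec _).2, (N.zm_spec _).2, tvG_apply, map_add,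
      map_smul, LinearMap.add_apply, LinearMap.smul_apply, smul_eq_mul, N.Bee, N.Bef, N.Bfe, N.Bff]
    match_scalars <;> field_simp <;> ring

theorem shift (δ b : F) {u : V} (hu : N.W u) (h : 1 - δ * b ≠ 0) :
    ∃ (b1 : F) (u1 : V) (a1 : H × iso B), N.W u1 ∧ N.IsA a1 ∧
      N.z δ * (N.zm b * N.kam u) = N.zm b1 * N.kam u1 * a1 := by
  obtain ⟨b1, δ1, d, t, hd, he⟩ := N.swap_z δ b h
  set w := t⁻¹ • u
  have hw : N.W w := N.W_smul _ hu
  have hT := N.Φ.tv_mem_sub N.hA hw δ1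
  refine ⟨b1, w, N.L (tvG N.hA w δ1) * (N.kap (-(δ1 • w)) * (N.z δ1 * (d * 1))), hw,
    N.IsA_L hT (N.IsA_kap (N.W_neg (N.W_smul _ hw)) (N.IsA_z _ (N.IsA_Dg hd N.IsA_one))), ?_⟩
  calc _ = (N.z δ * N.zm b) * N.kam u := by group
    _ = N.zm b1 * N.z δ1 * (d * N.kam u) := by rw [he]; group
    _ = N.zm b1 * (N.z δ1 * N.kam w) * d := by rw [N.Dg_kam hd hu]; dsimp only [w]; group
    _ = N.zm b1 * (N.L (tvG N.hA w δ1) * N.kam w) * N.kap (-(δ1 • w)) * N.z δ1 * d := by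
        rw [N.R1w δ1 hw]; group
    _ = N.zm b1 * (N.kam w * N.L (tvG N.hA w δ1)) * N.kap (-(δ1 • w)) * N.z δ1 * d := by
        rw [N.L_kam hT hw, tvG_fix N.hA δ1 (N.hA.self_eq_zero w)]
    _ = _ := by group

theorem Good_zm_aux (s c : F) {v u : V} (b : F) {a : H × iso B} (hv : N.W v) (hu : N.W u)
    (ha : N.IsA a) (h : 1 - c * s ≠ 0) :
    N.Good (N.zm s * (N.z c * N.kap v * (N.zm b * N.kam u) * a)) := by
  obtain ⟨c1, s1, d, t, hd, he⟩ := N.swap_zm s c h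
  set w := t • v
  set u' := t⁻¹ • u
  set b' := t⁻¹ * t⁻¹ * b
  have hw : N.W w := N.W_smul _ hv
  have hu' : N.W u' := N.W_smul _ hu
  have hT := N.Φ.tv_mem_sub N.hA hw s1
  have key : N.zm s * (N.z c * N.kap v * (N.zm b * N.kam u) * a) =
      N.L (tvG N.hA w s1) *
        (N.z c1 * N.kap w * (N.zm (s1 + b' + B u' (s1 • w)) * N.kam (s1 • w + u')) * (d * a)) := by
    calc _ = (N.zm s * N.z c) * N.kap v * N.zm b * N.kam u * a := by group
      _ = N.z c1 * N.zm s1 * (d * N.kap v) * N.zm b * N.kam u * a := by rw [he]; group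
      _ = N.z c1 * N.zm s1 * N.kap w * (d * N.zm b) * N.kam u * a := by rw [N.Dg_kap hd hv]; dsimp only [w]; group
      _ = N.z c1 * N.zm s1 * N.kap w * N.zm b' * (d * N.kam u) * a := by rw [N.Dg_zm hd]; dsimp only [b']; group
      _ = N.z c1 * (N.zm s1 * N.kap w) * N.zm b' * N.kam u' * (d * a) := by
          rw [N.Dg_kam hd hu]; dsimp only [u']; group
      _ = (N.z c1 * N.L (tvG N.hA w s1)) * N.kap w * N.kam (s1 • w) * (N.zm s1 * N.zm b') *
          N.kam u' * (d * a) := by rw [N.R1 s1 hw]; group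
      _ = N.L (tvG N.hA w s1) * N.z c1 * N.kap w * (N.kam (s1 • w) * N.zm (s1 + b')) *
          N.kam u' * (d * a) := by rw [← N.L_z hT, N.zm_add]; group
      _ = N.L (tvG N.hA w s1) * N.z c1 * N.kap w * N.zm (s1 + b') *
          (N.kam (s1 • w) * N.kam u') * (d * a) := by
          rw [← N.zm_kam _ (N.W_smul s1 hw)]; group
      _ = _ := by rw [N.kam_mul (N.W_smul s1 hw) hu', N.zm_add (s1 + b')]; group
  rw [key]
  exact N.Good_L hT ⟨_, _, _, _, _, hw, N.W_add (N.W_smul s1 hw) hu', N.IsA_Dg hd ha, rfl⟩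

theorem braid : N.zm 1 * N.z 1 * N.zm 1 = N.z 1 * N.zm 1 * N.z 1 := by
  have h := mul_inv_eq_iff_eq_mul.1 (N.w0_conj_z 1)
  refine mul_right_cancel (b := N.z 1) ?_
  rw [w0] at h
  rw [h]
  group

theorem Good_one_zero {w : V} {a : H × iso B} (hw : N.W w) (ha : N.IsA a) :
    N.Good (N.zm 1 * (N.z 1 * N.kap w * (N.zm 1 * N.kam 0) * a)) := by
  have hT := N.Φ.tv_mem_sub N.hA hw 1
  have hfix : (tvG N.hA w 1 : V ≃ₗ[F] V) w = w := tvG_fix N.hA 1 (N.hA.self_eq_zero w)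
  set L := N.L (tvG N.hA w 1) with hL
  have c1 : L * N.kap w = N.kap w * L := by rw [hL, N.L_kap hT hw, hfix]
  have c2 : L * N.kam w = N.kam w * L := by rw [hL, N.L_kam hT hw, hfix]
  have c3 : L * N.z 1 = N.z 1 * L := N.L_z hT 1
  have c4 : L * N.zm 1 = N.zm 1 * L := N.L_zm hT 1
  have c5 : N.kam w * N.kam (-w) = 1 := by
    rw [N.kam_mul hw (N.W_neg hw), add_neg_cancel, N.kam_zero, mul_one]
    simp [N.hA.self_eq_zero, N.zm_zero]
  have r : N.zm 1 * N.kap w = L * N.kap w * N.kam w * N.zm 1 := by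
    have := N.R1 1 hw; rwa [one_smul] at this
  have rw' : N.z 1 * N.kam (-w) = L * N.kam (-w) * N.kap w * N.z 1 := by
    have := N.R1w 1 (N.W_neg hw)
    rw [one_smul, neg_neg] at this
    rwa [show tvG N.hA (-w) 1 = tvG N.hA w 1 by
      rw [show -w = (-1 : F) • w by simp, tvG_smul]; simp] at this
  have hk : N.kam w * N.zm 1 = N.zm 1 * N.kam w := (N.zm_kam 1 hw).symm
  have e1 : N.kap w * N.zm 1 = L⁻¹ * N.zm 1 * N.kap w * N.kam (-w) := by
    rw [mul_assoc L⁻¹, r, ← mul_assoc, ← mul_assoc, ← mul_assoc, inv_mul_cancel, one_mul, mul_assoc (N.kap w), hk,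
      mul_assoc, mul_assoc, c5, mul_one]
  have c4' : L⁻¹ * N.zm 1 = N.zm 1 * L⁻¹ := ((Commute.inv_left (show Commute L (N.zm 1) from c4))).eq
  have c3' : L⁻¹ * N.z 1 = N.z 1 * L⁻¹ := ((Commute.inv_left (show Commute L (N.z 1) from c3))).eq
  have key : N.zm 1 * (N.z 1 * N.kap w * (N.zm 1 * N.kam 0) * a) =
      L * (N.z 1 * N.kap w * (N.zm 1 * N.kam 0) * (N.kap w * (N.z 1 * a))) := by
    rw [N.kam_zero, mul_one]
    calc N.zm 1 * (N.z 1 * N.kap w * N.zm 1 * a)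
        = N.zm 1 * N.z 1 * (N.kap w * N.zm 1) * a := by group
      _ = N.zm 1 * (N.z 1 * L⁻¹) * N.zm 1 * N.kap w * N.kam (-w) * a := by rw [e1]; group
      _ = (N.zm 1 * L⁻¹) * N.z 1 * N.zm 1 * N.kap w * N.kam (-w) * a := by rw [← c3']; group
      _ = L⁻¹ * (N.zm 1 * N.z 1 * N.zm 1) * N.kap w * N.kam (-w) * a := by rw [← c4']; group
      _ = L⁻¹ * N.z 1 * N.zm 1 * (N.z 1 * N.kap w) * N.kam (-w) * a := by rw [N.braid]; group
      _ = L⁻¹ * N.z 1 * (N.zm 1 * N.kap w) * (N.z 1 * N.kam (-w)) * a := by rw [N.z_kap 1 hw]; group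
      _ = L⁻¹ * (N.z 1 * L) * N.kap w * N.kam w * N.zm 1 * (L * N.kam (-w)) * N.kap w * N.z 1 * a := by
          rw [r, rw']; group
      _ = N.z 1 * N.kap w * (N.kam w * N.zm 1 * L) * N.kam (-w) * N.kap w * N.z 1 * a := by
          rw [← c3]; group
      _ = N.z 1 * N.kap w * (N.zm 1 * (N.kam w * L)) * N.kam (-w) * N.kap w * N.z 1 * a := by rw [hk]; group
      _ = N.z 1 * N.kap w * (N.zm 1 * L) * (N.kam w * N.kam (-w)) * N.kap w * N.z 1 * a := by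
          rw [← c2]; group
      _ = N.z 1 * (N.kap w * L) * N.zm 1 * N.kap w * N.z 1 * a := by rw [c5, ← c4]; group
      _ = (N.z 1 * L) * N.kap w * N.zm 1 * N.kap w * N.z 1 * a := by rw [← c1]; group
      _ = _ := by rw [← c3]; group
  rw [key]
  exact N.Good_L hT ⟨_, _, _, _, _, hw, N.W_zero, N.IsA_kap hw (N.IsA_z _ ha), rfl⟩

theorem Good_one {v u : V} {a : H × iso B} (hv : N.W v) (hu : N.W u) (ha : N.IsA a)
    (h01 : ∀ c : F, c = 0 ∨ c = 1) : N.Good (N.zm 1 * (N.z 1 * N.kap v * (N.zm 1 * N.kam u) * a)) := by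
  have hT := N.Φ.tv_mem_sub N.hA hu 1
  have hT' := inv_mem hT
  set T := tvG N.hA u 1 with hTdef
  have hfix : (T : V ≃ₗ[F] V) u = u := tvG_fix N.hA 1 (N.hA.self_eq_zero u)
  have hv' := N.W_sub hv hu
  set w := (T : V ≃ₗ[F] V) (v - u)
  have hw : N.W w := N.W_map hT hv'
  have r : N.zm 1 * N.kap u = N.L T * N.kap u * N.zm 1 * N.kam u := by
    have := N.R1 1 hu
    rw [one_smul] at this
    rw [this, mul_assoc _ (N.kam u), ← N.zm_kam 1 hu, ← mul_assoc]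
  have hkap : N.kap v = N.z (-B u (v - u)) * (N.kap (v - u) * N.kap u) := by
    rw [N.kap_mul hv' hu, sub_add_cancel, ← mul_assoc, ← N.z_add, neg_add_cancel, N.z_zero, one_mul]
  have hLi : N.L T⁻¹ = (N.L T)⁻¹ := (N.L_inv hT).symm
  have hwi : ((T⁻¹ : iso B) : V ≃ₗ[F] V) w = v - u := by
    rw [← mul_apply, inv_mul_cancel, one_apply]
  have hk2 : N.kap (v - u) * N.L T⁻¹ = N.L T⁻¹ * N.kap w := by
    rw [N.L_kap hT' hw, hwi]
  have key : N.zm 1 * (N.z 1 * N.kap v * (N.zm 1 * N.kam u) * a) =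
      N.L T⁻¹ * (N.zm 1 * (N.z (1 + -B u (v - u)) * N.kap w * (N.zm 1 * N.kam 0) * (N.kap u * a))) := by
    rw [N.kam_zero, mul_one]
    calc N.zm 1 * (N.z 1 * N.kap v * (N.zm 1 * N.kam u) * a)
        = N.zm 1 * N.z (1 + -B u (v - u)) * N.kap (v - u) * (N.kap u * N.zm 1 * N.kam u) * a := by
          rw [hkap, N.z_add]; group
      _ = N.zm 1 * N.z (1 + -B u (v - u)) * (N.kap (v - u) * N.L T⁻¹) * N.zm 1 * N.kap u * a := by
          rw [show N.kap u * N.zm 1 * N.kam u = (N.L T)⁻¹ * (N.zm 1 * N.kap u) by rw [r]; group, hLi]; group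
      _ = N.zm 1 * (N.z (1 + -B u (v - u)) * N.L T⁻¹) * N.kap w * N.zm 1 * N.kap u * a := by rw [hk2]; group
      _ = (N.zm 1 * N.L T⁻¹) * N.z (1 + -B u (v - u)) * N.kap w * N.zm 1 * N.kap u * a := by
          rw [← N.L_z hT']; group
      _ = _ := by rw [← N.L_zm hT']; group
  rw [key]
  refine N.Good_L hT' ?_
  rcases h01 (1 + -B u (v - u)) with h | h <;> rw [h]
  · exact N.Good_zm_aux 1 0 1 hw N.W_zero (N.IsA_kap hu ha) (by simp)
  · exact N.Good_one_zero hw (N.IsA_kap hu ha)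

theorem Good_zm (s : F) {x : H × iso B} (hx : N.Good x) : N.Good (N.zm s * x) := by
  obtain ⟨c, v, b, u, a, hv, hu, ha, rfl⟩ := hx
  by_cases hex : b = 1 ∧ c * s = 1 ∧ ¬∃ a' : F, a' ≠ 0 ∧ a' ≠ 1
  · obtain ⟨rfl, hcs, hno⟩ := hex
    have h01 : ∀ t : F, t = 0 ∨ t = 1 := fun t => by
      by_contra hc
      rw [not_or] at hc
      exact hno ⟨t, hc⟩
    obtain rfl : c = 1 := (h01 c).resolve_left fun h => by simp [h] at hcs
    rw [one_mul] at hcs
    subst hcs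
    exact N.Good_one hv hu ha h01
  obtain ⟨δ, hδ1, hδ2⟩ : ∃ δ, 1 - δ * b ≠ 0 ∧ 1 - (c - δ) * s ≠ 0 := by
    by_cases hcs : c * s = 1
    · have hs : s ≠ 0 := fun h0 => by simp [h0] at hcs
      by_cases hb : b = 1
      · obtain ⟨a', h0, h1⟩ : ∃ a' : F, a' ≠ 0 ∧ a' ≠ 1 := not_not.1 fun h => hex ⟨hb, hcs, h⟩
        refine ⟨a', ?_, ?_⟩
        · rw [hb, mul_one]; exact sub_ne_zero.2 h1.symm
        · rw [sub_mul, hcs, sub_sub_cancel]; exact mul_ne_zero h0 hs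
      · refine ⟨1, ?_, ?_⟩
        · rw [one_mul]; exact sub_ne_zero.2 (Ne.symm hb)
        · rw [sub_mul, hcs, sub_sub_cancel, one_mul]; exact hs
    · exact ⟨0, by simp, by rw [sub_zero]; exact sub_ne_zero.2 (Ne.symm hcs)⟩
  obtain ⟨b1, u1, a1, hu1, ha1, he⟩ := N.shift δ b hu hδ1
  have key : N.z c * N.kap v * (N.zm b * N.kam u) * a =
      N.z (c - δ) * N.kap v * (N.zm b1 * N.kam u1) * (a1 * a) := by
    calc _ = N.z (c - δ + δ) * N.kap v * (N.zm b * N.kam u) * a := by rw [sub_add_cancel]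
      _ = N.z (c - δ) * (N.z δ * N.kap v) * (N.zm b * N.kam u) * a := by rw [N.z_add]; group
      _ = N.z (c - δ) * N.kap v * (N.z δ * (N.zm b * N.kam u)) * a := by
          rw [N.z_kap δ hv]; group
      _ = _ := by rw [he]; group
  rw [key]
  exact N.Good_zm_aux s _ b1 hv hu1 (N.IsA_mul ha1 ha) hδ2

/-- The elements that preserve the normal forms. -/
def Stable : Subgroup (H × iso B) where
  carrier := {x | ∀ y, N.Good y → N.Good (x * y) ∧ N.Good (x⁻¹ * y)}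
  one_mem' := fun y hy => by simpa using hy
  mul_mem' := fun {x x'} hx hx' y hy =>
    ⟨by rw [mul_assoc]; exact (hx _ (hx' y hy).1).1,
      by rw [mul_inv_rev, mul_assoc]; exact (hx' _ (hx y hy).2).2⟩
  inv_mem' := fun {x} hx y hy => ⟨(hx y hy).2, by rw [inv_inv]; exact (hx y hy).1⟩

theorem z_stable (c : F) : N.z c ∈ N.Stable := fun _ hy =>
  ⟨N.Good_z c hy, by rw [N.z_inv]; exact N.Good_z _ hy⟩

theorem zm_stable (c : F) : N.zm c ∈ N.Stable := fun _ hy =>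
  ⟨N.Good_zm c hy, by rw [N.zm_inv]; exact N.Good_zm _ hy⟩

theorem kap_stable {v : V} (hv : N.W v) : N.kap v ∈ N.Stable := fun _ hy =>
  ⟨N.Good_kap hv hy, by rw [N.kap_inv hv]; exact N.Good_kap (N.W_neg hv) hy⟩

theorem L_stable {g : iso B} (hg : g ∈ N.Φ.sub (N.p : ℕ)) : N.L g ∈ N.Stable := fun _ hy =>
  ⟨N.Good_L hg hy, by rw [N.L_inv hg]; exact N.Good_L (inv_mem hg) hy⟩

theorem R_le : N.R ≤ N.Stable := fun x hx => by
  rw [← N.L_eq hx]; exact N.L_stable (snd_mem N.mapR hx)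

theorem A0_le : N.A0 ≤ N.Stable := by
  intro x hx
  have h : N.Φ.pl N.hA N.m ≤ (N.A0 ⊓ N.Stable).map (MonoidHom.snd H (iso B)) := by
    refine (Subgroup.closure_le _).2 ?_
    rintro _ (⟨c, rfl⟩ | ⟨c, rfl⟩)
    · exact ⟨N.z c, ⟨(N.z_spec c).1, N.z_stable c⟩, (N.z_spec c).2⟩
    · exact ⟨N.zm c, ⟨(N.zm_spec c).1, N.zm_stable c⟩, (N.zm_spec c).2⟩
  obtain ⟨y, hy, hxy⟩ := h (N.Φ.ss_le_pl N.hA _ (snd_mem N.mapA0 hx))
  rw [← N.injA0.eq hy.1 hx hxy]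
  exact hy.2

theorem K0_le : N.K0 ≤ N.Stable := by
  intro x hx
  obtain ⟨c, t, g, hg, he⟩ := N.Φ.mm_decomp N.hA N.hp (snd_mem N.mapK0 hx)
  have hgs := N.Φ.ss_le_sub (m := (N.p : ℕ)) le_rfl hg
  have heq : x = N.z c * N.kap (t • N.Φ.e N.p) * N.L g := by
    refine N.inj01.eq (Subgroup.mem_sup_left hx) (mul_mem (mul_mem
      (Subgroup.mem_sup_left (N.z_mem_K0 c)) (Subgroup.mem_sup_left (N.kap_smul_P t)))
      (Subgroup.mem_sup_right (N.L_A1 hg))) ?_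
    rw [Prod.snd_mul, Prod.snd_mul, (N.z_spec c).2, N.kap_snd (N.W_smul t N.W_P),
      (N.L_spec hgs).2, he]
    rfl
  rw [heq]
  exact mul_mem (mul_mem (N.z_stable c) (N.kap_stable (N.W_smul t N.W_P))) (N.L_stable hgs)

/-- The whole group of this step. -/
def top : Subgroup (H × iso B) := N.A0 ⊔ N.K0 ⊔ N.R

theorem good_top {x : H × iso B} (hx : x ∈ N.top) : N.Good x := by
  have hle : N.top ≤ N.Stable := sup_le (sup_le N.A0_le N.K0_le) N.R_le
  simpa using ((hle hx) 1 (N.Good_of_IsA N.IsA_one)).1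

theorem kg_e_e {v : V} (hv : N.W v) : (kg N.hA N.e v : V ≃ₗ[F] V) N.e = N.e := by
  rw [kg_apply N.hA (N.Be hv), N.Bee, N.Be hv]; simp

theorem IsA_e {a : H × iso B} (ha : N.IsA a) : ∃ t : F, (a.2 : V ≃ₗ[F] V) N.e = t • N.e := by
  obtain ⟨g, hg, c, v, d, t, hv, hd, rfl⟩ := ha
  refine ⟨t, ?_⟩
  simp only [Prod.snd_mul, mul_apply, hd.2.2.1, map_smul, N.kap_snd hv, N.kg_e_e hv,
    (N.z_spec c).2, tvG_fix N.hA c N.Bee, (N.L_spec hg).2, N.sub_fix_e hg]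

theorem IsA_ker {a : H × iso B} (ha : N.IsA a) (h1 : a.2 = 1) : a = 1 := by
  obtain ⟨g, hg, c, v, d, t, hv, hd, rfl⟩ := ha
  have he := congrArg (fun k : iso B => (k : V ≃ₗ[F] V) N.e) h1
  simp only [Prod.snd_mul, mul_apply, hd.2.2.1, map_smul, N.kap_snd hv, N.kg_e_e hv,
    (N.z_spec c).2, tvG_fix N.hA c N.Bee, (N.L_spec hg).2, N.sub_fix_e hg, one_apply] at he
  have ht : t = 1 := by simpa [N.Bef] using congrArg (fun y => B y N.f) he
  obtain ⟨hdA, -, hde, hdf⟩ := hd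
  rw [ht, one_smul] at hde
  rw [ht, inv_one, one_smul] at hdf
  have hd1 : d = 1 := by
    refine N.injA0 d hdA (N.Φ.eq_one_of_fix_all N.hA fun l => ?_)
    by_cases hl : l = N.m
    · subst hl; exact ⟨hde, hdf⟩
    · exact snd_mem N.mapA0 hdA l hl
  subst hd1
  have hf := congrArg (fun k : iso B => (k : V ≃ₗ[F] V) N.f) h1
  simp only [Prod.snd_mul, mul_apply, mul_one, N.kap_snd hv, kg_apply N.hA (N.Be hv),
    N.Bfe, N.Bf hv, zero_smul, add_zero, (N.z_spec c).2, tvG_apply, map_add, map_smul,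
    LinearMap.add_apply, LinearMap.smul_apply, smul_eq_mul, N.Bve hv, mul_zero, (N.L_spec hg).2,
    N.sub_fix_e hg, N.sub_fix_f hg, Prod.snd_one, one_apply] at hf
  have hgv := N.W_map hg hv
  have hc : c = 0 := by
    simpa [N.Bef, N.Bff, N.Bvf hgv] using congrArg (fun y => B y N.f) hf
  subst hc
  have hgv0 : (g : V ≃ₗ[F] V) v = 0 := by simpa using hf
  rw [LinearEquiv.map_eq_zero_iff] at hgv0
  subst hgv0
  have hg1 : g = 1 := by simpa [N.kap_zero, N.z_zero, (N.L_spec hg).2] using h1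
  simp [hg1, N.L_one, N.kap_zero, N.z_zero]

theorem R_apply_e (b : F) {u : V} (hu : N.W u) :
    ((N.zm b * N.kam u).2 : V ≃ₗ[F] V) N.e = N.e + u + b • N.f := by
  rw [Prod.snd_mul, mul_apply, (N.zm_spec b).2, N.kam_snd hu, kg_apply N.hA (N.Bf hu), tvG_apply]
  simp only [map_add, map_smul, LinearMap.add_apply, LinearMap.smul_apply, smul_eq_mul, N.Bef,
    N.Be hu, N.Bff, N.Bvf hu]
  module

theorem Rp_apply (c : F) {v : V} (hv : N.W v) {u : V} (hu : N.W u) (b : F) :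
    ((N.z c * N.kap v).2 : V ≃ₗ[F] V) (N.e + u + b • N.f) =
      (1 + B u v - c * b) • N.e + (u - b • v) + b • N.f := by
  rw [Prod.snd_mul, mul_apply, (N.z_spec c).2, N.kap_snd hv, kg_apply N.hA (N.Be hv), tvG_apply]
  simp only [map_add, map_smul, LinearMap.add_apply, LinearMap.smul_apply, smul_eq_mul, N.Bee,
    N.Bfe, N.Be hv, N.Bf hv, N.Bve hu, N.Bve hv]
  module

theorem inj_top : Inj N.top := by
  intro x hx h1
  obtain ⟨c, v, b, u, a, hv, hu, ha, rfl⟩ := N.good_top hx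
  obtain ⟨t, ht⟩ := N.IsA_e ha
  have he := congrArg (fun k : iso B => (k : V ≃ₗ[F] V) N.e) h1
  simp only [Prod.snd_mul (N.z c * N.kap v * (N.zm b * N.kam u)) a,
    Prod.snd_mul (N.z c * N.kap v) (N.zm b * N.kam u), mul_apply, ht, map_smul,
    N.R_apply_e b hu, N.Rp_apply c hv hu, one_apply] at he
  have p1 := congrArg (fun y => B y N.e) he
  have p2 := congrArg (fun y => B y N.f) he
  simp [N.Bee, N.Bef, N.Bfe, N.Bff, N.Bve hu, N.Bve hv, N.Bvf hu, N.Bvf hv] at p1 p2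
  have ht0 : t ≠ 0 := fun h0 => by simp [h0] at p2
  have hb : b = 0 := by tauto
  subst hb
  simp only [zero_smul, add_zero, sub_zero, mul_zero, smul_add, smul_smul] at he p2
  rw [p2, one_smul] at he
  have hu0 : u = 0 := by
    have : t • u = 0 := by simpa using he
    simpa [ht0] using this
  subst hu0
  rw [N.zm_zero, N.kam_zero, mul_one, mul_one] at h1 ⊢
  refine N.IsA_ker ?_ h1
  rw [mul_assoc]
  exact N.IsA_z c (N.IsA_kap hv ha)

theorem kap_mem_top (v : V) : N.kap v ∈ N.top := by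
  unfold kap
  split
  next h =>
    have h1 : N.L h.choose ∈ N.top := Subgroup.mem_sup_right (N.L_spec h.choose_spec.1).1
    exact mul_mem (mul_mem h1 (Subgroup.mem_sup_left (Subgroup.mem_sup_right N.k1_spec.1)))
      (inv_mem h1)
  next => exact one_mem _

theorem A0_le_top : N.A0 ≤ N.top := le_sup_left.trans le_sup_left

theorem kam_mem_top (v : V) : N.kam v ∈ N.top :=
  mul_mem (mul_mem (N.A0_le_top N.w0_mem) (N.kap_mem_top v)) (inv_mem (N.A0_le_top N.w0_mem))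

theorem map_top : N.top.map (MonoidHom.snd H (iso B)) = N.Φ.sub (N.m : ℕ) := by
  refine le_antisymm ?_ ?_
  · rw [top, Subgroup.map_sup, Subgroup.map_sup, N.mapA0, N.mapK0, N.mapR]
    exact sup_le (sup_le (N.Φ.ss_le_sub le_rfl) (N.Φ.mm_le_sub le_rfl))
      (N.Φ.sub_antitone (by rw [N.hp]; omega))
  intro g hg
  obtain ⟨w, hw', hy⟩ := N.Φ.coord N.hA (N.Φ.perp_map hg (N.Φ.perp_e (le_refl (N.m : ℕ))))
  have hw : N.W w := by unfold W; rw [N.hp]; exact hw'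
  set α := B ((g : V ≃ₗ[F] V) (N.Φ.e N.m)) (N.Φ.f N.m)
  set β := B (N.Φ.e N.m) ((g : V ≃ₗ[F] V) (N.Φ.e N.m))
  have hy' : (g : V ≃ₗ[F] V) N.e = α • N.e + β • N.f + w := hy
  obtain ⟨x, hx, hxe⟩ : ∃ x ∈ N.top, (x.2 : V ≃ₗ[F] V) N.e = (g : V ≃ₗ[F] V) N.e := by
    by_cases hβ : β = 0
    · by_cases hw0 : w = 0
      · have hα : α ≠ 0 := by
          intro h0
          rw [h0, hβ, hw0, zero_smul, zero_smul, zero_add, zero_add,
            LinearEquiv.map_eq_zero_iff] at hy'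
          exact N.Φ.e_ne_zero _ hy'
        obtain ⟨k, hk, hke⟩ := N.Φ.exists_plane_map N.hA N.m α 0 (Or.inl hα)
        have hs := lf_spec N.mapA0 (N.Φ.pl_le_ss N.hA _ hk)
        refine ⟨_, N.A0_le_top hs.1, ?_⟩
        rw [hs.2, hy', hβ, hw0, add_zero]
        exact hke
      · obtain ⟨r, hr, hwr⟩ : ∃ r, N.W r ∧ B w r ≠ 0 := by
          by_contra hc
          push Not at hc
          refine hw0 (N.Φ.sep w fun l => ?_)
          by_cases hl : (l : ℕ) < (N.p : ℕ)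
          · exact hw l hl
          · exact ⟨hc _ (N.Φ.perp_e (by omega)), hc _ (N.Φ.perp_f N.hA (by omega))⟩
        set v := ((α - 1) / B w r) • r
        have hv : N.W v := N.W_smul _ hr
        refine ⟨N.z 0 * N.kap v * (N.zm 0 * N.kam w), mul_mem (mul_mem
          (N.A0_le_top (N.z_spec 0).1) (N.kap_mem_top v))
          (mul_mem (N.A0_le_top (N.zm_spec 0).1) (N.kam_mem_top w)), ?_⟩
        rw [Prod.snd_mul, mul_apply, N.R_apply_e 0 hw, N.Rp_apply 0 hv hw, hy', hβ]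
        simp only [v, map_smul, smul_eq_mul]
        match_scalars <;> field_simp <;> ring
    · refine ⟨N.z ((1 - α) / β) * N.kap 0 * (N.zm β * N.kam w), mul_mem (mul_mem
        (N.A0_le_top (N.z_spec _).1) (N.kap_mem_top 0))
        (mul_mem (N.A0_le_top (N.zm_spec β).1) (N.kam_mem_top w)), ?_⟩
      rw [Prod.snd_mul, mul_apply, N.R_apply_e β hw, N.Rp_apply _ N.W_zero hw, hy']
      simp only [map_zero]
      match_scalars <;> field_simp <;> ring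
  have hxs : x.2 ∈ N.Φ.sub (N.m : ℕ) := by
    have h : N.top.map (MonoidHom.snd H (iso B)) ≤ N.Φ.sub (N.m : ℕ) := by
      rw [top, Subgroup.map_sup, Subgroup.map_sup, N.mapA0, N.mapK0, N.mapR]
      exact sup_le (sup_le (N.Φ.ss_le_sub le_rfl) (N.Φ.mm_le_sub le_rfl))
        (N.Φ.sub_antitone (by rw [N.hp]; omega))
    exact h ⟨x, hx, rfl⟩
  have hfix : ((x.2⁻¹ * g : iso B) : V ≃ₗ[F] V) (N.Φ.e N.m) = N.Φ.e N.m := by
    change ((x.2⁻¹ * g : iso B) : V ≃ₗ[F] V) N.e = N.e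
    rw [mul_apply, ← hxe, ← mul_apply, inv_mul_cancel, one_apply]
  obtain ⟨c, v, g', hv', hg', he⟩ := N.Φ.stab_decomp N.hA (mul_mem (inv_mem hxs) hg) hfix
  have hv : N.W v := by unfold W; rw [N.hp]; exact hv'
  have hg'' : g' ∈ N.Φ.sub (N.p : ℕ) := by rw [N.hp]; exact hg'
  refine ⟨x * (N.z c * N.kap v * N.L g'), mul_mem hx (mul_mem (mul_mem
    (N.A0_le_top (N.z_spec c).1) (N.kap_mem_top v))
    (Subgroup.mem_sup_right (N.L_spec hg'').1)), ?_⟩
  change (x * (N.z c * N.kap v * N.L g')).2 = g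
  rw [Prod.snd_mul, Prod.snd_mul, Prod.snd_mul, (N.z_spec c).2, N.kap_snd hv, (N.L_spec hg'').2,
    show tvG N.hA N.e c * kg N.hA N.e v * g' = x.2⁻¹ * g from he.symm]
  group

end Node

end Cfsg.Lib.Recog.SpAmalgam
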