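import Cfsg.Agent.Lib.Linear.SymplecticGroup

/-!
Isometries supported on parts of a hyperbolic frame, and the root elements they contain.
-/

set_option autoImplicit false
set_option linter.unusedSectionVars false

namespace Cfsg.Lib.Recog.SpAmalgam

open Module
open Cfsg.Lib.Linear.Symp

variable {F V : Type*} [Field F] [AddCommGroup V] [Module F V] [FiniteDimensional F V]
  {B : LinearMap.BilinForm F V}

theorem iso_apply (g : iso B) (x y : V) : B ((g : V ≃ₗ[F] V) x) ((g : V ≃ₗ[F] V) y) = B x y := g.2 x y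

theorem mul_apply (g h : iso B) (x : V) :
    ((g * h : iso B) : V ≃ₗ[F] V) x = (g : V ≃ₗ[F] V) ((h : V ≃ₗ[F] V) x) := rfl

theorem one_apply (x : V) : ((1 : iso B) : V ≃ₗ[F] V) x = x := rfl

theorem inv_fix {g : iso B} {x : V} (h : (g : V ≃ₗ[F] V) x = x) :
    ((g⁻¹ : iso B) : V ≃ₗ[F] V) x = x := by
  calc ((g⁻¹ : iso B) : V ≃ₗ[F] V) x = ((g⁻¹ * g : iso B) : V ≃ₗ[F] V) x := by rw [mul_apply, h]
    _ = x := by rw [inv_mul_cancel, one_apply]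

theorem iso_ext {g h : iso B} (H : ∀ x, (g : V ≃ₗ[F] V) x = (h : V ≃ₗ[F] V) x) : g = h :=
  Subtype.ext (LinearEquiv.ext H)

theorem skew (hA : B.IsAlt) (x y : V) : B y x = -B x y := (LinearMap.IsAlt.neg hA x y).symm

theorem tvG_apply (hA : B.IsAlt) (v : V) (c : F) (x : V) :
    (tvG hA v c : V ≃ₗ[F] V) x = x + (c * B x v) • v := rfl

theorem tvG_fix (hA : B.IsAlt) {v x : V} (c : F) (h : B x v = 0) : (tvG hA v c : V ≃ₗ[F] V) x = x := by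
  simp [tvG_apply, h]

/-- A root element attached to a pair of orthogonal vectors. -/
def kg (hA : B.IsAlt) (a v : V) : iso B := tvG hA (a + v) 1 * tvG hA a (-1) * tvG hA v (-1)

theorem kg_apply (hA : B.IsAlt) {a v : V} (h : B a v = 0) (x : V) :
    (kg hA a v : V ≃ₗ[F] V) x = x + B x a • v + B x v • a := by
  have h' : B v a = 0 := by rw [skew hA a v, h, neg_zero]
  rw [kg, mul_apply, mul_apply, tvG_apply, tvG_apply, tvG_apply]
  simp only [map_add, map_smul, LinearMap.add_apply, LinearMap.smul_apply, smul_eq_mul, h, h',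
    hA.self_eq_zero, mul_zero, add_zero, zero_add]
  module

theorem kg_conj (hA : B.IsAlt) (g : iso B) (a v : V) :
    g * kg hA a v * g⁻¹ = kg hA ((g : V ≃ₗ[F] V) a) ((g : V ≃ₗ[F] V) v) := by
  rw [kg, kg, ← map_add, ← tvG_conj, ← tvG_conj, ← tvG_conj]
  group

theorem kg_zero (hA : B.IsAlt) (a : V) : kg hA a (0 : V) = 1 :=
  iso_ext fun x => by rw [kg_apply hA (by simp)]; simp [one_apply]

/-- A hyperbolic frame that detects zero. -/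
structure Frame (B : LinearMap.BilinForm F V) (n : ℕ) where
  /-- first halves -/
  e : Fin n → V
  /-- second halves -/
  f : Fin n → V
  ee : ∀ i j, B (e i) (e j) = 0
  ff : ∀ i j, B (f i) (f j) = 0
  ef : ∀ i j, B (e i) (f j) = if i = j then 1 else 0
  sep : ∀ x, (∀ i, B x (e i) = 0 ∧ B x (f i) = 0) → x = 0

variable {n : ℕ} (Φ : Frame B n)

namespace Frame

theorem ef_ne {i j : Fin n} (h : i ≠ j) : B (Φ.e i) (Φ.f j) = 0 := by rw [Φ.ef, if_neg h]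

theorem ef_self (i : Fin n) : B (Φ.e i) (Φ.f i) = 1 := by rw [Φ.ef, if_pos rfl]

theorem fe (hA : B.IsAlt) (i j : Fin n) : B (Φ.f i) (Φ.e j) = -(if j = i then 1 else 0) := by
  rw [skew hA, Φ.ef]

theorem fe_ne (hA : B.IsAlt) {i j : Fin n} (h : i ≠ j) : B (Φ.f i) (Φ.e j) = 0 := by
  rw [Φ.fe hA, if_neg (Ne.symm h), neg_zero]

theorem fe_self (hA : B.IsAlt) (i : Fin n) : B (Φ.f i) (Φ.e i) = -1 := by rw [Φ.fe hA, if_pos rfl]

theorem expand (hA : B.IsAlt) (x : V) :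
    x = ∑ i, (B x (Φ.f i) • Φ.e i - B x (Φ.e i) • Φ.f i) := by
  refine sub_eq_zero.1 (Φ.sep _ fun j => ?_)
  constructor <;>
    simp [map_sum, LinearMap.sum_apply, Φ.ee, Φ.ff, Φ.ef, Φ.fe hA]

theorem fixes (hA : B.IsAlt) {g : iso B} {x : V}
    (h : ∀ i, (B x (Φ.f i) = 0 ∨ (g : V ≃ₗ[F] V) (Φ.e i) = Φ.e i) ∧
      (B x (Φ.e i) = 0 ∨ (g : V ≃ₗ[F] V) (Φ.f i) = Φ.f i)) : (g : V ≃ₗ[F] V) x = x := by
  conv_lhs => rw [Φ.expand hA x]
  conv_rhs => rw [Φ.expand hA x]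
  rw [map_sum]
  refine Finset.sum_congr rfl fun i _ => ?_
  rw [map_sub, map_smul, map_smul]
  rcases (h i).1 with h1 | h1 <;> rcases (h i).2 with h2 | h2 <;> simp [h1, h2]

/-- Isometries fixing the frame below `m`. -/
def sub (m : ℕ) : Subgroup (iso B) where
  carrier := {g | ∀ l : Fin n, (l : ℕ) < m →
    (g : V ≃ₗ[F] V) (Φ.e l) = Φ.e l ∧ (g : V ≃ₗ[F] V) (Φ.f l) = Φ.f l}
  one_mem' := fun _ _ => ⟨rfl, rfl⟩
  mul_mem' := fun {g h} hg hh l hl => ⟨by rw [mul_apply, (hh l hl).1, (hg l hl).1],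
    by rw [mul_apply, (hh l hl).2, (hg l hl).2]⟩
  inv_mem' := fun {g} hg l hl => ⟨inv_fix (hg l hl).1, inv_fix (hg l hl).2⟩

/-- Isometries fixing the frame outside the pair `j`. -/
def ss (j : Fin n) : Subgroup (iso B) where
  carrier := {g | ∀ l : Fin n, l ≠ j →
    (g : V ≃ₗ[F] V) (Φ.e l) = Φ.e l ∧ (g : V ≃ₗ[F] V) (Φ.f l) = Φ.f l}
  one_mem' := fun _ _ => ⟨rfl, rfl⟩
  mul_mem' := fun {g h} hg hh l hl => ⟨by rw [mul_apply, (hh l hl).1, (hg l hl).1],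
    by rw [mul_apply, (hh l hl).2, (hg l hl).2]⟩
  inv_mem' := fun {g} hg l hl => ⟨inv_fix (hg l hl).1, inv_fix (hg l hl).2⟩

/-- The abelian subgroup of the adjacent pair starting at `i`. -/
def mm (i : Fin n) : Subgroup (iso B) where
  carrier := {g | (∀ l : Fin n, (g : V ≃ₗ[F] V) (Φ.e l) = Φ.e l) ∧
    ∀ l : Fin n, (l : ℕ) ≠ i → (l : ℕ) ≠ (i : ℕ) + 1 → (g : V ≃ₗ[F] V) (Φ.f l) = Φ.f l}
  one_mem' := ⟨fun _ => rfl, fun _ _ _ => rfl⟩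
  mul_mem' := fun {g h} hg hh => ⟨fun l => by rw [mul_apply, hh.1 l, hg.1 l],
    fun l h1 h2 => by rw [mul_apply, hh.2 l h1 h2, hg.2 l h1 h2]⟩
  inv_mem' := fun {g} hg => ⟨fun l => inv_fix (hg.1 l), fun l h1 h2 => inv_fix (hg.2 l h1 h2)⟩

theorem sub_antitone {a b : ℕ} (h : a ≤ b) : Φ.sub b ≤ Φ.sub a := fun _ hg l hl => hg l (by omega)

theorem eq_one_of_fix_all (hA : B.IsAlt) {g : iso B}
    (h : ∀ l, (g : V ≃ₗ[F] V) (Φ.e l) = Φ.e l ∧ (g : V ≃ₗ[F] V) (Φ.f l) = Φ.f l) : g = 1 :=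
  iso_ext fun _ => (Φ.fixes hA fun i => ⟨Or.inr (h i).1, Or.inr (h i).2⟩).trans (one_apply _).symm

theorem sub_top (hA : B.IsAlt) : Φ.sub n = ⊥ :=
  (Subgroup.eq_bot_iff_forall _).2 fun _ hg => Φ.eq_one_of_fix_all hA fun l => hg l l.2

theorem sub_zero : Φ.sub 0 = ⊤ := eq_top_iff.2 fun _ _ l hl => absurd hl (by omega)

theorem ss_le_sub {j : Fin n} {m : ℕ} (h : m ≤ (j : ℕ)) : Φ.ss j ≤ Φ.sub m :=
  fun _ hg l hl => hg l (fun e => by subst e; omega)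

theorem mm_le_sub {i : Fin n} {m : ℕ} (h : m ≤ (i : ℕ)) : Φ.mm i ≤ Φ.sub m :=
  fun _ hg l hl => ⟨hg.1 l, hg.2 l (by omega) (by omega)⟩

theorem commute_of_fix {g h : iso B}
    (h1 : ∀ x, (g : V ≃ₗ[F] V) ((h : V ≃ₗ[F] V) x - x) = (h : V ≃ₗ[F] V) x - x)
    (h2 : ∀ x, (h : V ≃ₗ[F] V) ((g : V ≃ₗ[F] V) x - x) = (g : V ≃ₗ[F] V) x - x) : g * h = h * g := by
  refine iso_ext fun x => ?_
  rw [mul_apply, mul_apply]
  have e1 := h1 x
  have e2 := h2 x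
  rw [map_sub, sub_eq_iff_eq_add] at e1 e2
  rw [e1, e2]
  abel

theorem B_move_eq_zero {g : iso B} {y : V} (h : (g : V ≃ₗ[F] V) y = y) (x : V) :
    B ((g : V ≃ₗ[F] V) x - x) y = 0 := by
  rw [map_sub, LinearMap.sub_apply]
  conv_lhs => arg 1; rw [← h, iso_apply]
  exact sub_self _

theorem ss_ss_comm (hA : B.IsAlt) {j k : Fin n} (hjk : j ≠ k) {g h : iso B} (hg : g ∈ Φ.ss j)
    (hh : h ∈ Φ.ss k) : g * h = h * g := by
  refine commute_of_fix (fun x => Φ.fixes hA fun i => ?_) (fun x => Φ.fixes hA fun i => ?_)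
  · by_cases hi : i = j
    · subst hi
      exact ⟨Or.inl (B_move_eq_zero (hh i hjk).2 x), Or.inl (B_move_eq_zero (hh i hjk).1 x)⟩
    · exact ⟨Or.inr (hg i hi).1, Or.inr (hg i hi).2⟩
  · by_cases hi : i = k
    · subst hi
      exact ⟨Or.inl (B_move_eq_zero (hg i hjk.symm).2 x), Or.inl (B_move_eq_zero (hg i hjk.symm).1 x)⟩
    · exact ⟨Or.inr (hh i hi).1, Or.inr (hh i hi).2⟩

theorem mm_mm_comm (hA : B.IsAlt) {i k : Fin n} {g h : iso B} (hg : g ∈ Φ.mm i) (hh : h ∈ Φ.mm k) :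
    g * h = h * g :=
  commute_of_fix (fun x => Φ.fixes hA fun l => ⟨Or.inr (hg.1 l), Or.inl (B_move_eq_zero (hh.1 l) x)⟩)
    (fun x => Φ.fixes hA fun l => ⟨Or.inr (hh.1 l), Or.inl (B_move_eq_zero (hg.1 l) x)⟩)

theorem ss_mm_comm (hA : B.IsAlt) {i j : Fin n} (h1 : (j : ℕ) ≠ i) (h2 : (j : ℕ) ≠ (i : ℕ) + 1)
    {g h : iso B} (hg : g ∈ Φ.ss j) (hh : h ∈ Φ.mm i) : g * h = h * g := by
  refine commute_of_fix (fun x => Φ.fixes hA fun l => ?_) (fun x => Φ.fixes hA fun l => ?_)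
  · by_cases hl : l = j
    · subst hl
      exact ⟨Or.inl (B_move_eq_zero (hh.2 l h1 h2) x), Or.inl (B_move_eq_zero (hh.1 l) x)⟩
    · exact ⟨Or.inr (hg l hl).1, Or.inr (hg l hl).2⟩
  · by_cases hl : l = j
    · subst hl; exact ⟨Or.inr (hh.1 l), Or.inr (hh.2 l h1 h2)⟩
    · exact ⟨Or.inr (hh.1 l), Or.inl (B_move_eq_zero (hg l hl).1 x)⟩

/-- Orthogonality to the frame below `m`. -/
def Perp (m : ℕ) (x : V) : Prop :=
  ∀ l : Fin n, (l : ℕ) < m → B x (Φ.e l) = 0 ∧ B x (Φ.f l) = 0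

theorem perp_add {m : ℕ} {x y : V} (hx : Φ.Perp m x) (hy : Φ.Perp m y) : Φ.Perp m (x + y) :=
  fun l hl => ⟨by simp [(hx l hl).1, (hy l hl).1], by simp [(hx l hl).2, (hy l hl).2]⟩

theorem perp_smul {m : ℕ} {x : V} (c : F) (hx : Φ.Perp m x) : Φ.Perp m (c • x) :=
  fun l hl => ⟨by simp [(hx l hl).1], by simp [(hx l hl).2]⟩

theorem perp_zero (m : ℕ) : Φ.Perp m 0 := fun _ _ => ⟨by simp, by simp⟩

theorem perp_mono {a b : ℕ} (h : a ≤ b) {x : V} (hx : Φ.Perp b x) : Φ.Perp a x :=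
  fun l hl => hx l (by omega)

theorem perp_e {m : ℕ} {i : Fin n} (h : m ≤ (i : ℕ)) : Φ.Perp m (Φ.e i) :=
  fun l hl => ⟨Φ.ee _ _, Φ.ef_ne (fun e => by subst e; omega)⟩

theorem perp_f (hA : B.IsAlt) {m : ℕ} {i : Fin n} (h : m ≤ (i : ℕ)) : Φ.Perp m (Φ.f i) :=
  fun l hl => ⟨Φ.fe_ne hA (fun e => by subst e; omega), Φ.ff _ _⟩

theorem perp_map {m : ℕ} {g : iso B} (hg : g ∈ Φ.sub m) {x : V} (hx : Φ.Perp m x) :
    Φ.Perp m ((g : V ≃ₗ[F] V) x) := fun l hl => by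
  constructor
  · rw [← (hg l hl).1, iso_apply]; exact (hx l hl).1
  · rw [← (hg l hl).2, iso_apply]; exact (hx l hl).2

theorem tv_mem_sub (hA : B.IsAlt) {m : ℕ} {v : V} (hv : Φ.Perp m v) (c : F) : tvG hA v c ∈ Φ.sub m :=
  fun l hl => ⟨tvG_fix hA c (by rw [skew hA, (hv l hl).1, neg_zero]),
    tvG_fix hA c (by rw [skew hA, (hv l hl).2, neg_zero])⟩

theorem kg_mem_sub (hA : B.IsAlt) {m : ℕ} {a v : V} (ha : Φ.Perp m a) (hv : Φ.Perp m v) :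
    kg hA a v ∈ Φ.sub m :=
  mul_mem (mul_mem (Φ.tv_mem_sub hA (Φ.perp_add ha hv) _) (Φ.tv_mem_sub hA ha _)) (Φ.tv_mem_sub hA hv _)

theorem exists_sub_map (hB : B.Nondegenerate) (hA : B.IsAlt) {m : ℕ} {a b : V} (ha : Φ.Perp m a)
    (hb : Φ.Perp m b) (ha0 : a ≠ 0) (hb0 : b ≠ 0) : ∃ g ∈ Φ.sub m, (g : V ≃ₗ[F] V) a = b := by
  set S : Set V := {v | ∃ l : Fin n, (l : ℕ) < m ∧ (v = Φ.e l ∨ v = Φ.f l)}
  have orth : ∀ y, Φ.Perp m y → ∀ x ∈ Submodule.span F S, B x y = 0 := by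
    intro y hy x hx
    induction hx using Submodule.span_induction with
    | mem x hx =>
      obtain ⟨l, hl, rfl | rfl⟩ := hx
      · rw [skew hA, (hy l hl).1, neg_zero]
      · rw [skew hA, (hy l hl).2, neg_zero]
    | zero => simp
    | add x y _ _ hx hy => simp [hx, hy]
    | smul c x _ hx => simp [hx]
  have nmem : ∀ y, Φ.Perp m y → y ≠ 0 → y ∉ Submodule.span F S := by
    intro y hy hy0 hmem
    refine hy0 (Φ.sep y fun l => ?_)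
    by_cases hl : (l : ℕ) < m
    · exact hy l hl
    · exact ⟨orth _ (Φ.perp_e (by omega)) y hmem, orth _ (Φ.perp_f hA (by omega)) y hmem⟩
  obtain ⟨t, ht, hta⟩ := exists_T_map hB hA (Submodule.span F S) (nmem a ha ha0) (nmem b hb hb0)
    (fun x hx => by rw [orth a ha x hx, orth b hb x hx])
  refine ⟨⟨t, T_le_iso hA _ ht⟩, fun l hl => ?_, hta⟩
  have hfix := (mem_fixer.1 (T_le_fixer hA _ ht)).2
  exact ⟨hfix _ (Submodule.subset_span ⟨l, hl, Or.inl rfl⟩), hfix _ (Submodule.subset_span ⟨l, hl, Or.inr rfl⟩)⟩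

theorem tv_e_mem_ss (hA : B.IsAlt) (i : Fin n) (c : F) : tvG hA (Φ.e i) c ∈ Φ.ss i :=
  fun l hl => ⟨tvG_fix hA c (Φ.ee _ _), tvG_fix hA c (Φ.fe_ne hA hl)⟩

theorem tv_f_mem_ss (hA : B.IsAlt) (i : Fin n) (c : F) : tvG hA (Φ.f i) c ∈ Φ.ss i :=
  fun l hl => ⟨tvG_fix hA c (Φ.ef_ne hl), tvG_fix hA c (Φ.ff _ _)⟩

theorem tv_e_mem_mm (hA : B.IsAlt) (i j : Fin n) (h : (j : ℕ) = i ∨ (j : ℕ) = (i : ℕ) + 1) (c : F) :
    tvG hA (Φ.e j) c ∈ Φ.mm i :=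
  ⟨fun l => tvG_fix hA c (Φ.ee _ _), fun l h1 h2 => tvG_fix hA c (Φ.fe_ne hA (fun e => by subst e; omega))⟩

theorem kg_e_mem_mm (hA : B.IsAlt) {i j : Fin n} (h : (j : ℕ) = (i : ℕ) + 1) (t : F) :
    kg hA (Φ.e i) (t • Φ.e j) ∈ Φ.mm i := by
  have hk := fun x => kg_apply hA (a := Φ.e i) (v := t • Φ.e j) (by simp [Φ.ee]) x
  refine ⟨fun l => by simp [hk, Φ.ee], fun l h1 h2 => ?_⟩
  rw [hk]
  simp [Φ.fe_ne hA (show l ≠ i from fun e => by subst e; omega),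
    Φ.fe_ne hA (show l ≠ j from fun e => by subst e; omega)]

end Frame

end Cfsg.Lib.Recog.SpAmalgam
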