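import Mathlib

/-!
Subgroups of a product that meet the first factor trivially, and the lifts they define.
-/

set_option autoImplicit false

namespace Cfsg.Lib.Recog.SpAmalgam

variable {H G : Type*} [Group H] [Group G]

/-- The second projection is injective on `L`. -/
def Inj (L : Subgroup (H × G)) : Prop := ∀ x ∈ L, x.2 = 1 → x = 1

theorem Inj.eq {L : Subgroup (H × G)} (h : Inj L) {x y : H × G} (hx : x ∈ L) (hy : y ∈ L)
    (e : x.2 = y.2) : x = y :=
  mul_inv_eq_one.1 (h _ (mul_mem hx (inv_mem hy)) (by simp [e]))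

theorem Inj.mono {L M : Subgroup (H × G)} (h : Inj M) (hle : L ≤ M) : Inj L := fun x hx => h x (hle hx)

theorem Inj.comm {L : Subgroup (H × G)} (h : Inj L) {x y : H × G} (hx : x ∈ L) (hy : y ∈ L)
    (e : x.2 * y.2 = y.2 * x.2) : x * y = y * x :=
  h.eq (mul_mem hx hy) (mul_mem hy hx) e

open Classical in
/-- The element of `L` above `g`. -/
noncomputable def lf (L : Subgroup (H × G)) (g : G) : H × G :=
  if h : ∃ x ∈ L, x.2 = g then h.choose else 1

theorem lf_spec {L : Subgroup (H × G)} {S : Subgroup G} (hS : L.map (MonoidHom.snd H G) = S) {g : G}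
    (hg : g ∈ S) : lf L g ∈ L ∧ (lf L g).2 = g := by
  rw [← hS] at hg
  obtain ⟨x, hx, hxg⟩ := hg
  have h : ∃ x ∈ L, x.2 = g := ⟨x, hx, hxg⟩
  rw [lf, dif_pos h]
  exact h.choose_spec

theorem snd_mem {L : Subgroup (H × G)} {S : Subgroup G} (hS : L.map (MonoidHom.snd H G) = S) {x : H × G}
    (hx : x ∈ L) : x.2 ∈ S := hS ▸ ⟨x, hx, rfl⟩

theorem exists_hom_lift {L : Subgroup (H × G)} (h : Inj L) (hL : L.map (MonoidHom.snd H G) = ⊤) :
    ∃ φ : G →* H, ∀ x ∈ L, φ x.2 = x.1 := by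
  have hs : ∀ g, lf L g ∈ L ∧ (lf L g).2 = g := fun g => lf_spec hL (Subgroup.mem_top g)
  refine ⟨MonoidHom.mk' (fun g => (lf L g).1) fun a b => ?_, fun x hx => ?_⟩
  · show (lf L (a * b)).1 = _
    rw [h.eq (hs (a * b)).1 (mul_mem (hs a).1 (hs b).1) (by simp [(hs _).2])]
    rfl
  · show (lf L x.2).1 = x.1
    rw [h.eq (hs _).1 hx (hs _).2]

end Cfsg.Lib.Recog.SpAmalgam
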