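import Cfsg.Agent.Lib.Recog.SpAmalgam.Frame

/-!
Coordinates along a hyperbolic frame, and the root calculus of one pair.
-/

set_option autoImplicit false
set_option linter.unusedSectionVars false

namespace Cfsg.Lib.Recog.SpAmalgam

open Module
open Cfsg.Lib.Linear.Symp

variable {F V : Type*} [Field F] [AddCommGroup V] [Module F V] [FiniteDimensional F V]
  {B : LinearMap.BilinForm F V}

theorem tvG_zero (hA : B.IsAlt) (v : V) : tvG hA v 0 = 1 :=
  iso_ext fun x => by simp [tvG_apply, one_apply]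

theorem tvG_smul (hA : B.IsAlt) (v : V) (t c : F) : tvG hA (t • v) c = tvG hA v (t * t * c) :=
  iso_ext fun x => by
    simp only [tvG_apply, map_smul, smul_eq_mul]
    module

theorem tvG_inv (hA : B.IsAlt) (v : V) (c : F) : (tvG hA v c)⁻¹ = tvG hA v (-c) :=
  inv_eq_of_mul_eq_one_right (by rw [← tvG_add, add_neg_cancel, tvG_zero])

theorem kg_smul_left (hA : B.IsAlt) {a v : V} (h : B a v = 0) (t : F) :
    kg hA (t • a) v = kg hA a (t • v) := iso_ext fun x => by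
  rw [kg_apply hA (by simp [h]), kg_apply hA (by simp [h])]
  simp only [map_smul, smul_eq_mul]
  module

theorem kg_mul_kg (hA : B.IsAlt) {a v w : V} (hv : B a v = 0) (hw : B a w = 0) :
    kg hA a v * kg hA a w = tvG hA a (B w v) * kg hA a (v + w) := iso_ext fun x => by
  have hwa : B w a = 0 := by rw [skew hA a w, hw, neg_zero]
  rw [mul_apply, mul_apply, kg_apply hA hv, kg_apply hA hw, kg_apply hA (by simp [hv, hw]), tvG_apply]
  simp only [map_add, map_smul, LinearMap.add_apply, LinearMap.smul_apply, smul_eq_mul, hv, hw, hwa,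
    hA.self_eq_zero, mul_zero, add_zero]
  have hva : B v a = 0 := by rw [skew hA a v, hv, neg_zero]
  simp only [hva, mul_zero, add_zero]
  module

theorem kg_add_smul (hA : B.IsAlt) {a b v : V} (hab : B a b = 1) (hv : B a v = 0) (hv' : B b v = 0)
    (s : F) : kg hA (a + s • b) v = tvG hA v s * kg hA a v * kg hA b (s • v) := iso_ext fun x => by
  have hva : B v a = 0 := by rw [skew hA a v, hv, neg_zero]
  have hvb : B v b = 0 := by rw [skew hA b v, hv', neg_zero]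
  have hba : B b a = -1 := by rw [skew hA a b, hab]
  rw [mul_apply, mul_apply, kg_apply hA (a := a + s • b) (v := v) (by simp [hv, hv']),
    kg_apply hA (a := b) (v := s • v) (by simp [hv']), kg_apply hA (a := a) (v := v) hv, tvG_apply]
  simp only [map_add, map_smul, LinearMap.add_apply, LinearMap.smul_apply, smul_eq_mul, hv, hv',
    hva, hvb, hba, hA.self_eq_zero, mul_zero, add_zero, mul_neg, mul_one]
  module

variable {n : ℕ} (Φ : Frame B n)

namespace Frame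

theorem e_ne_zero (i : Fin n) : Φ.e i ≠ 0 := fun h => by
  simpa [h] using Φ.ef_self i

theorem f_ne_zero (i : Fin n) : Φ.f i ≠ 0 := fun h => by
  simpa [h] using Φ.ef_self i

theorem perp_neg {m : ℕ} {x : V} (hx : Φ.Perp m x) : Φ.Perp m (-x) := by
  simpa using Φ.perp_smul (-1) hx

theorem perp_sub {m : ℕ} {x y : V} (hx : Φ.Perp m x) (hy : Φ.Perp m y) : Φ.Perp m (x - y) := by
  simpa [sub_eq_add_neg] using Φ.perp_add hx (Φ.perp_neg hy)

theorem perp_all (hA : B.IsAlt) {x : V} (hx : Φ.Perp n x) : x = 0 :=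
  Φ.sep x fun l => hx l l.2

theorem coord (hA : B.IsAlt) {i : Fin n} {y : V} (hy : Φ.Perp i y) :
    ∃ w, Φ.Perp ((i : ℕ) + 1) w ∧ y = B y (Φ.f i) • Φ.e i + B (Φ.e i) y • Φ.f i + w := by
  refine ⟨y - (B y (Φ.f i) • Φ.e i + B (Φ.e i) y • Φ.f i), fun l hl => ?_, by abel⟩
  rcases lt_or_eq_of_le (Nat.lt_succ_iff.1 hl) with h | h
  · have hne : i ≠ l := fun e => by subst e; omega
    simp [Φ.ee, Φ.ff, (hy l h).1, (hy l h).2, Φ.fe_ne hA hne, Φ.ef_ne hne]
  · obtain rfl : l = i := Fin.ext h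
    simp [Φ.ee, Φ.ff, Φ.fe_self hA, Φ.ef_self, skew hA y (Φ.e l)]

theorem fix_of_ss (hA : B.IsAlt) {i : Fin n} {g : iso B} (hg : g ∈ Φ.ss i) {x : V}
    (hx : Φ.Perp ((i : ℕ) + 1) x) : (g : V ≃ₗ[F] V) x = x := by
  refine Φ.fixes hA fun l => ?_
  by_cases hl : l = i
  · subst hl; exact ⟨Or.inl (hx l (by omega)).2, Or.inl (hx l (by omega)).1⟩
  · exact ⟨Or.inr (hg l hl).1, Or.inr (hg l hl).2⟩

/-- The group generated by the root subgroups of the pair `i`. -/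
def pl (hA : B.IsAlt) (i : Fin n) : Subgroup (iso B) :=
  Subgroup.closure (Set.range (fun c => tvG hA (Φ.e i) c) ∪ Set.range (fun c => tvG hA (Φ.f i) c))

theorem tv_e_mem_pl (hA : B.IsAlt) (i : Fin n) (c : F) : tvG hA (Φ.e i) c ∈ Φ.pl hA i :=
  Subgroup.subset_closure (Or.inl ⟨c, rfl⟩)

theorem tv_f_mem_pl (hA : B.IsAlt) (i : Fin n) (c : F) : tvG hA (Φ.f i) c ∈ Φ.pl hA i :=
  Subgroup.subset_closure (Or.inr ⟨c, rfl⟩)

theorem pl_le_ss (hA : B.IsAlt) (i : Fin n) : Φ.pl hA i ≤ Φ.ss i := by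
  refine (Subgroup.closure_le _).2 ?_
  rintro _ (⟨c, rfl⟩ | ⟨c, rfl⟩)
  · exact Φ.tv_e_mem_ss hA i c
  · exact Φ.tv_f_mem_ss hA i c

theorem exists_plane_map (hA : B.IsAlt) (i : Fin n) (a b : F) (h : a ≠ 0 ∨ b ≠ 0) :
    ∃ g ∈ Φ.pl hA i, (g : V ≃ₗ[F] V) (Φ.e i) = a • Φ.e i + b • Φ.f i := by
  have key : ∀ a b : F, b ≠ 0 → ∃ g ∈ Φ.pl hA i,
      (g : V ≃ₗ[F] V) (Φ.e i) = a • Φ.e i + b • Φ.f i := by
    intro a b hb
    refine ⟨tvG hA (Φ.e i) ((1 - a) / b) * tvG hA (Φ.f i) b,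
      mul_mem (Φ.tv_e_mem_pl hA i _) (Φ.tv_f_mem_pl hA i _), ?_⟩
    rw [mul_apply, tvG_apply, tvG_apply]
    simp only [map_add, map_smul, LinearMap.add_apply, LinearMap.smul_apply, smul_eq_mul, Φ.ee,
      Φ.fe_self hA, Φ.ef_self, mul_one]
    match_scalars <;> field_simp <;> ring
  by_cases hb : b = 0
  · subst hb
    have ha : a ≠ 0 := by simpa using h
    obtain ⟨g, hg, hge⟩ := key a 1 one_ne_zero
    refine ⟨tvG hA (Φ.f i) (-a⁻¹) * g, mul_mem (Φ.tv_f_mem_pl hA i _) hg, ?_⟩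
    rw [mul_apply, hge, tvG_apply]
    simp only [map_add, map_smul, LinearMap.add_apply, LinearMap.smul_apply, smul_eq_mul, Φ.ff,
      Φ.ef_self]
    match_scalars <;> field_simp <;> ring
  · exact key a b hb

theorem stab_decomp (hA : B.IsAlt) {i : Fin n} {g : iso B} (hg : g ∈ Φ.sub i)
    (he : (g : V ≃ₗ[F] V) (Φ.e i) = Φ.e i) :
    ∃ (c : F) (w : V) (g' : iso B), Φ.Perp ((i : ℕ) + 1) w ∧ g' ∈ Φ.sub ((i : ℕ) + 1) ∧
      g = tvG hA (Φ.e i) c * kg hA (Φ.e i) w * g' := by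
  obtain ⟨w, hw, hy⟩ := Φ.coord hA (Φ.perp_map hg (Φ.perp_f hA (le_refl _)))
  have h1 : B (Φ.e i) ((g : V ≃ₗ[F] V) (Φ.f i)) = 1 := by
    conv_lhs => rw [← he, iso_apply, Φ.ef_self]
  rw [h1, one_smul] at hy
  set a := B ((g : V ≃ₗ[F] V) (Φ.f i)) (Φ.f i)
  have hew : B (Φ.e i) w = 0 := by rw [skew hA w, (hw i (by omega)).1, neg_zero]
  have hwe : B w (Φ.e i) = 0 := (hw i (by omega)).1
  have hwf : B w (Φ.f i) = 0 := (hw i (by omega)).2
  refine ⟨-a, -w, (tvG hA (Φ.e i) (-a) * kg hA (Φ.e i) (-w))⁻¹ * g, Φ.perp_neg hw, ?_, by group⟩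
  intro l hl
  have hx : ∀ x, ((tvG hA (Φ.e i) (-a) * kg hA (Φ.e i) (-w) : iso B) : V ≃ₗ[F] V) x =
      (g : V ≃ₗ[F] V) x →
      (((tvG hA (Φ.e i) (-a) * kg hA (Φ.e i) (-w))⁻¹ * g : iso B) : V ≃ₗ[F] V) x = x := by
    intro x hx
    rw [mul_apply, ← hx, ← mul_apply, inv_mul_cancel, one_apply]
  rcases lt_or_eq_of_le (Nat.lt_succ_iff.1 hl) with h | h
  · have hne : l ≠ i := fun e => by subst e; omega
    constructor <;> refine hx _ ?_
    · rw [(hg l h).1, mul_apply, kg_apply hA (by simp [hew]), tvG_apply]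
      simp [Φ.ee, skew hA w (Φ.e l), (hw l (by omega)).1]
    · rw [(hg l h).2, mul_apply, kg_apply hA (by simp [hew]), tvG_apply]
      simp [Φ.fe_ne hA hne, skew hA w (Φ.f l), (hw l (by omega)).2]
  · obtain rfl : l = i := Fin.ext h
    constructor <;> refine hx _ ?_
    · rw [he, mul_apply, kg_apply hA (by simp [hew]), tvG_apply]
      simp [Φ.ee, hew]
    · rw [hy, mul_apply, kg_apply hA (by simp [hew]), tvG_apply]
      simp only [map_add, map_smul, map_neg, LinearMap.add_apply, LinearMap.smul_apply,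
        LinearMap.neg_apply, smul_eq_mul, Φ.fe_self hA, skew hA w (Φ.f l), hwf, hwe,
        hA.self_eq_zero]
      module

theorem ss_le_pl (hA : B.IsAlt) (i : Fin n) : Φ.ss i ≤ Φ.pl hA i := by
  intro g hg
  have hgs : g ∈ Φ.sub i := Φ.ss_le_sub le_rfl hg
  obtain ⟨w, hw, hy⟩ := Φ.coord hA (Φ.perp_map hgs (Φ.perp_e (le_refl _)))
  have hw0 : w = 0 := by
    refine Φ.sep w fun l => ?_
    by_cases hl : l = i
    · subst hl; exact hw l (by omega)
    · have he := congrArg (fun t => (B t (Φ.e l), B t (Φ.f l))) hy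
      simp only [Prod.mk.injEq] at he
      have h1 : B ((g : V ≃ₗ[F] V) (Φ.e i)) (Φ.e l) = 0 := by
        rw [← (hg l hl).1, iso_apply, Φ.ee]
      have h2 : B ((g : V ≃ₗ[F] V) (Φ.e i)) (Φ.f l) = 0 := by
        rw [← (hg l hl).2, iso_apply, Φ.ef_ne (Ne.symm hl)]
      rw [h1, h2] at he
      constructor
      · simpa [Φ.ee, Φ.fe_ne hA (Ne.symm hl)] using he.1.symm
      · simpa [Φ.ff, Φ.ef_ne (Ne.symm hl)] using he.2.symm
  rw [hw0, add_zero] at hy
  obtain ⟨x, hx, hxe⟩ := Φ.exists_plane_map hA i (B ((g : V ≃ₗ[F] V) (Φ.e i)) (Φ.f i))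
    (B (Φ.e i) ((g : V ≃ₗ[F] V) (Φ.e i))) (by
    by_contra hc
    simp only [ne_eq, not_or, not_not] at hc
    rw [hc.1, hc.2, zero_smul, zero_smul, add_zero, LinearEquiv.map_eq_zero_iff] at hy
    exact Φ.e_ne_zero i hy)
  rw [← hy] at hxe
  have hfix : ((x⁻¹ * g : iso B) : V ≃ₗ[F] V) (Φ.e i) = Φ.e i := by
    rw [mul_apply, ← hxe, ← mul_apply, inv_mul_cancel, one_apply]
  have hm : x⁻¹ * g ∈ Φ.ss i := mul_mem (inv_mem (Φ.pl_le_ss hA i hx)) hg
  obtain ⟨c, w', g', hw', hg', heq⟩ := Φ.stab_decomp hA (Φ.ss_le_sub le_rfl hm) hfix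
  suffices h : x⁻¹ * g = tvG hA (Φ.e i) c by
    rw [← mul_inv_cancel_left x g, h]
    exact mul_mem hx (Φ.tv_e_mem_pl hA i c)
  refine iso_ext fun y => ?_
  have hfw : B (Φ.f i) w' = 0 := by rw [skew hA w', (hw' i (by omega)).2, neg_zero]
  have hew' : B (Φ.e i) w' = 0 := by rw [skew hA w', (hw' i (by omega)).1, neg_zero]
  have hf : ((x⁻¹ * g : iso B) : V ≃ₗ[F] V) (Φ.f i) = Φ.f i - w' - c • Φ.e i := by
    rw [heq, mul_apply, (hg' i (by omega)).2, mul_apply, kg_apply hA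
      (by rw [skew hA w', (hw' i (by omega)).1, neg_zero]), tvG_apply]
    simp only [Φ.fe_self hA, hfw, hew', (hw' i (by omega)).2, (hw' i (by omega)).1,
      map_add, map_smul, LinearMap.add_apply, LinearMap.smul_apply, smul_eq_mul, Φ.ee]
    module
  have hw'0 : w' = 0 := by
    refine Φ.sep w' fun l => ?_
    by_cases hl : l = i
    · subst hl; exact hw' l (by omega)
    · have h1 : B (((x⁻¹ * g : iso B) : V ≃ₗ[F] V) (Φ.f i)) (Φ.e l) = 0 := by
        rw [← (hm l hl).1, iso_apply, Φ.fe_ne hA (Ne.symm hl)]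
      have h2 : B (((x⁻¹ * g : iso B) : V ≃ₗ[F] V) (Φ.f i)) (Φ.f l) = 0 := by
        rw [← (hm l hl).2, iso_apply, Φ.ff]
      rw [hf] at h1 h2
      constructor
      · simpa [Φ.fe_ne hA (Ne.symm hl), Φ.ee] using h1
      · simpa [Φ.ff, Φ.ef_ne (Ne.symm hl)] using h2
  rw [heq, hw'0, kg_zero, mul_one] at hm ⊢
  have hg'' : g' = 1 := by
    refine Φ.eq_one_of_fix_all hA fun l => ?_
    by_cases hl : (l : ℕ) < (i : ℕ) + 1
    · exact hg' l hl
    · have hne : l ≠ i := fun e => by subst e; omega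
      have h := mul_mem (inv_mem (Φ.tv_e_mem_ss hA i c)) hm
      rw [inv_mul_cancel_left] at h
      exact h l hne
  rw [hg'', mul_one]

theorem mm_decomp (hA : B.IsAlt) {i j : Fin n} (hj : (j : ℕ) = (i : ℕ) + 1) {g : iso B}
    (hg : g ∈ Φ.mm i) : ∃ (c t : F), ∃ g' ∈ Φ.ss j,
      g = tvG hA (Φ.e i) c * kg hA (Φ.e i) (t • Φ.e j) * g' := by
  have hij : i ≠ j := fun e => by subst e; omega
  obtain ⟨c, w, g', hw, hg', heq⟩ := Φ.stab_decomp hA (Φ.mm_le_sub le_rfl hg) (hg.1 i)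
  have hew : B (Φ.e i) w = 0 := by rw [skew hA w, (hw i (by omega)).1, neg_zero]
  have hwe : B w (Φ.e i) = 0 := (hw i (by omega)).1
  have hgf : (g : V ≃ₗ[F] V) (Φ.f i) = Φ.f i - w - c • Φ.e i := by
    rw [heq, mul_apply, (hg' i (by omega)).2, mul_apply, kg_apply hA hew, tvG_apply]
    simp only [Φ.fe_self hA, skew hA w (Φ.f i), (hw i (by omega)).2, hwe,
      map_add, map_smul, LinearMap.add_apply, LinearMap.smul_apply, smul_eq_mul, Φ.ee]
    module
  have hwj : w = B w (Φ.f j) • Φ.e j := by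
    refine sub_eq_zero.1 (Φ.sep _ fun l => ?_)
    have h1 : B ((g : V ≃ₗ[F] V) (Φ.f i)) (Φ.e l) = B (Φ.f i) (Φ.e l) := by
      conv_lhs => rw [← hg.1 l, iso_apply]
    rw [hgf] at h1
    have he : B w (Φ.e l) = 0 := by simpa [Φ.ee] using h1
    refine ⟨by simp [he, Φ.ee], ?_⟩
    by_cases hlj : l = j
    · subst hlj; simp [Φ.ef_self]
    · have hwf : B w (Φ.f l) = 0 := by
        by_cases hli : l = i
        · subst hli; exact (hw l (by omega)).2
        · have h2 : B ((g : V ≃ₗ[F] V) (Φ.f i)) (Φ.f l) = 0 := by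
            rw [← hg.2 l (fun e => hli (Fin.ext e)) (fun e => hlj (Fin.ext (e.trans hj.symm))),
              iso_apply, Φ.ff]
          rw [hgf] at h2
          simpa [Φ.ff, Φ.ef_ne (Ne.symm hli)] using h2
      simp [hwf, Φ.ef_ne (Ne.symm hlj)]
  refine ⟨c, B w (Φ.f j), g', ?_, by rw [← hwj]; exact heq⟩
  have hm : g' ∈ Φ.mm i := by
    have h0 : tvG hA (Φ.e i) c * kg hA (Φ.e i) w ∈ Φ.mm i := by
      rw [hwj]
      exact mul_mem (Φ.tv_e_mem_mm hA i i (Or.inl rfl) c) (Φ.kg_e_mem_mm hA hj _)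
    have h := mul_mem (inv_mem h0) hg
    rwa [heq, inv_mul_cancel_left] at h
  intro l hl
  refine ⟨hm.1 l, ?_⟩
  by_cases hli : l = i
  · subst hli; exact (hg' l (by omega)).2
  · exact hm.2 l (fun e => hli (Fin.ext e)) (fun e => hl (Fin.ext (e.trans hj.symm)))

end Frame

end Cfsg.Lib.Recog.SpAmalgam
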