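import Cfsg.Agent.Lib.Recog.SpAmalgam.Plane
import Cfsg.Agent.Lib.Recog.SpAmalgam.Lift

/-!
One step of the amalgam argument: lifts of the root elements attached to the new pair.
-/

set_option autoImplicit false
set_option linter.unusedSectionVars false

namespace Cfsg.Lib.Recog.SpAmalgam

open Module
open Cfsg.Lib.Linear.Symp

variable {F V H : Type*} [Field F] [AddCommGroup V] [Module F V] [FiniteDimensional F V] [Group H]

/-- The data of one step: a new pair `m`, its neighbour `p`, and the lifted subgroups. -/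
structure Node (B : LinearMap.BilinForm F V) (n : ℕ) (H : Type*) [Group H] where
  hA : B.IsAlt
  hB : B.Nondegenerate
  Φ : Frame B n
  m : Fin n
  p : Fin n
  hp : (p : ℕ) = (m : ℕ) + 1
  A0 : Subgroup (H × iso B)
  K0 : Subgroup (H × iso B)
  A1 : Subgroup (H × iso B)
  R : Subgroup (H × iso B)
  mapA0 : A0.map (MonoidHom.snd H (iso B)) = Φ.ss m
  mapK0 : K0.map (MonoidHom.snd H (iso B)) = Φ.mm m
  mapA1 : A1.map (MonoidHom.snd H (iso B)) = Φ.ss p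
  mapR : R.map (MonoidHom.snd H (iso B)) = Φ.sub (p : ℕ)
  A1_le : A1 ≤ R
  injR : Inj R
  inj00 : Inj (K0 ⊔ A0)
  inj01 : Inj (K0 ⊔ A1)
  commA0 : ∀ a ∈ A0, ∀ r ∈ R, a * r = r * a
  hF : (∃ a : F, a ≠ 0 ∧ a ≠ 1) ∨ ∀ q : Fin n, (q : ℕ) = (p : ℕ) + 1 →
    ∃ g ∈ R, ∃ h ∈ R, ((g.2 : iso B) : V ≃ₗ[F] V) (Φ.e p) = Φ.e q ∧
      ((h.2 : iso B) : V ≃ₗ[F] V) (Φ.e p) = Φ.e p + Φ.e q ∧
      lf K0 (kg hA (Φ.e m) (Φ.e p)) * (g * lf K0 (kg hA (Φ.e m) (Φ.e p)) * g⁻¹) =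
        h * lf K0 (kg hA (Φ.e m) (Φ.e p)) * h⁻¹
  stabcomm : ∀ g ∈ Φ.sub (p : ℕ), (g : V ≃ₗ[F] V) (Φ.e p) = Φ.e p →
    lf R g * lf K0 (kg hA (Φ.e m) (Φ.e p)) = lf K0 (kg hA (Φ.e m) (Φ.e p)) * lf R g

namespace Node

variable {B : LinearMap.BilinForm F V} {n : ℕ} (N : Node B n H)

/-- The vectors orthogonal to the frame up to `m`. -/
def W (v : V) : Prop := N.Φ.Perp (N.p : ℕ) v

/-- The first vector of the new pair. -/
def e : V := N.Φ.e N.m
/-- The second vector of the new pair. -/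
def f : V := N.Φ.f N.m

/-- Lift of an isometry fixing the new pair. -/
noncomputable def L (g : iso B) : H × iso B := lf N.R g
/-- Lift of a long root element at `e`. -/
noncomputable def z (c : F) : H × iso B := lf N.A0 (tvG N.hA N.e c)
/-- Lift of a long root element at `f`. -/
noncomputable def zm (s : F) : H × iso B := lf N.A0 (tvG N.hA N.f s)
/-- Lift of an element exchanging the pair. -/
noncomputable def w0 : H × iso B := N.z 1 * N.zm 1 * N.z 1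
/-- The basic short root element. -/
noncomputable def k1 : H × iso B := lf N.K0 (kg N.hA N.e (N.Φ.e N.p))

open Classical in
/-- Lift of the root element attached to `e` and a vector. -/
noncomputable def kap (v : V) : H × iso B :=
  if h : ∃ g ∈ N.Φ.sub (N.p : ℕ), (g : V ≃ₗ[F] V) (N.Φ.e N.p) = v then
    N.L h.choose * N.k1 * (N.L h.choose)⁻¹
  else 1

/-- Lift of the root element attached to `f` and a vector. -/
noncomputable def kam (v : V) : H × iso B := N.w0 * N.kap v * N.w0⁻¹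

theorem W_add {v w : V} (hv : N.W v) (hw : N.W w) : N.W (v + w) := N.Φ.perp_add hv hw
theorem W_sub {v w : V} (hv : N.W v) (hw : N.W w) : N.W (v - w) := N.Φ.perp_sub hv hw
theorem W_smul {v : V} (t : F) (hv : N.W v) : N.W (t • v) := N.Φ.perp_smul t hv
theorem W_neg {v : V} (hv : N.W v) : N.W (-v) := N.Φ.perp_neg hv
theorem W_zero : N.W (0 : V) := N.Φ.perp_zero _
theorem W_P : N.W (N.Φ.e N.p) := N.Φ.perp_e le_rfl
theorem W_Q : N.W (N.Φ.f N.p) := N.Φ.perp_f N.hA le_rfl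

theorem W_map {g : iso B} (hg : g ∈ N.Φ.sub (N.p : ℕ)) {v : V} (hv : N.W v) :
    N.W ((g : V ≃ₗ[F] V) v) := N.Φ.perp_map hg hv

theorem W_fix {g : iso B} (hg : g ∈ N.Φ.ss N.m) {v : V} (hv : N.W v) : (g : V ≃ₗ[F] V) v = v :=
  N.Φ.fix_of_ss N.hA hg (by rw [← N.hp]; exact hv)

theorem Be {v : V} (hv : N.W v) : B N.e v = 0 := by
  rw [skew N.hA v, e, (hv N.m (by rw [N.hp]; omega)).1, neg_zero]

theorem Bf {v : V} (hv : N.W v) : B N.f v = 0 := by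
  rw [skew N.hA v, f, (hv N.m (by rw [N.hp]; omega)).2, neg_zero]

theorem Bve {v : V} (hv : N.W v) : B v N.e = 0 := (hv N.m (by rw [N.hp]; omega)).1
theorem Bvf {v : V} (hv : N.W v) : B v N.f = 0 := (hv N.m (by rw [N.hp]; omega)).2

theorem sub_fix_e {g : iso B} (hg : g ∈ N.Φ.sub (N.p : ℕ)) : (g : V ≃ₗ[F] V) N.e = N.e :=
  (hg N.m (by rw [N.hp]; omega)).1

theorem sub_fix_f {g : iso B} (hg : g ∈ N.Φ.sub (N.p : ℕ)) : (g : V ≃ₗ[F] V) N.f = N.f :=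
  (hg N.m (by rw [N.hp]; omega)).2

theorem Bef : B N.e N.f = 1 := N.Φ.ef_self _
theorem Bfe : B N.f N.e = -1 := N.Φ.fe_self N.hA _
theorem Bee : B N.e N.e = 0 := N.Φ.ee _ _
theorem Bff : B N.f N.f = 0 := N.Φ.ff _ _

theorem L_spec {g : iso B} (hg : g ∈ N.Φ.sub (N.p : ℕ)) : N.L g ∈ N.R ∧ (N.L g).2 = g :=
  lf_spec N.mapR hg

theorem L_mul {g h : iso B} (hg : g ∈ N.Φ.sub (N.p : ℕ)) (hh : h ∈ N.Φ.sub (N.p : ℕ)) :
    N.L (g * h) = N.L g * N.L h :=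
  N.injR.eq (N.L_spec (mul_mem hg hh)).1 (mul_mem (N.L_spec hg).1 (N.L_spec hh).1)
    (by simp [(N.L_spec (mul_mem hg hh)).2, (N.L_spec hg).2, (N.L_spec hh).2])

theorem L_one : N.L 1 = 1 :=
  N.injR _ (N.L_spec (one_mem _)).1 (N.L_spec (one_mem _)).2

theorem L_eq {x : H × iso B} (hx : x ∈ N.R) : N.L x.2 = x :=
  N.injR.eq (N.L_spec (snd_mem N.mapR hx)).1 hx (N.L_spec (snd_mem N.mapR hx)).2

theorem L_A1 {g : iso B} (hg : g ∈ N.Φ.ss N.p) : N.L g ∈ N.A1 := by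
  have h := lf_spec N.mapA1 hg
  rw [← h.2, N.L_eq (N.A1_le h.1)]
  exact h.1

theorem L_comm {g : iso B} (hg : g ∈ N.Φ.sub (N.p : ℕ)) {a : H × iso B} (ha : a ∈ N.A0) :
    a * N.L g = N.L g * a := N.commA0 a ha _ (N.L_spec hg).1

theorem z_spec (c : F) : N.z c ∈ N.A0 ∧ (N.z c).2 = tvG N.hA N.e c :=
  lf_spec N.mapA0 (N.Φ.tv_e_mem_ss N.hA _ c)

theorem zm_spec (c : F) : N.zm c ∈ N.A0 ∧ (N.zm c).2 = tvG N.hA N.f c :=
  lf_spec N.mapA0 (N.Φ.tv_f_mem_ss N.hA _ c)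

theorem w0_mem : N.w0 ∈ N.A0 := mul_mem (mul_mem (N.z_spec 1).1 (N.zm_spec 1).1) (N.z_spec 1).1

theorem injA0 : Inj N.A0 := N.inj00.mono le_sup_right

theorem z_add (c d : F) : N.z (c + d) = N.z c * N.z d :=
  N.injA0.eq (N.z_spec _).1 (mul_mem (N.z_spec c).1 (N.z_spec d).1)
    (by simp [(N.z_spec _).2, tvG_add])

theorem zm_add (c d : F) : N.zm (c + d) = N.zm c * N.zm d :=
  N.injA0.eq (N.zm_spec _).1 (mul_mem (N.zm_spec c).1 (N.zm_spec d).1)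
    (by simp [(N.zm_spec _).2, tvG_add])

theorem z_zero : N.z 0 = 1 := N.injA0 _ (N.z_spec 0).1 (by rw [(N.z_spec 0).2, tvG_zero])
theorem zm_zero : N.zm 0 = 1 := N.injA0 _ (N.zm_spec 0).1 (by rw [(N.zm_spec 0).2, tvG_zero])

theorem z_inv (c : F) : (N.z c)⁻¹ = N.z (-c) :=
  inv_eq_of_mul_eq_one_right (by rw [← N.z_add, add_neg_cancel, N.z_zero])

theorem zm_inv (c : F) : (N.zm c)⁻¹ = N.zm (-c) :=
  inv_eq_of_mul_eq_one_right (by rw [← N.zm_add, add_neg_cancel, N.zm_zero])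

theorem z_mem_K0 (c : F) : N.z c ∈ N.K0 := by
  have hm : tvG N.hA N.e c ∈ N.Φ.mm N.m := N.Φ.tv_e_mem_mm N.hA _ _ (Or.inl rfl) c
  have h := lf_spec N.mapK0 hm
  rw [N.inj00.eq (le_sup_right (a := N.K0) (N.z_spec c).1) (le_sup_left (b := N.A0) h.1)
    ((N.z_spec c).2.trans h.2.symm)]
  exact h.1

theorem w0_e : ((N.w0).2 : V ≃ₗ[F] V) N.e = N.f := by
  simp only [w0, Prod.snd_mul, mul_apply, (N.z_spec 1).2, (N.zm_spec 1).2, tvG_apply, map_add,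
    map_smul, LinearMap.add_apply, LinearMap.smul_apply, smul_eq_mul, N.Bee, N.Bef, N.Bfe, N.Bff]
  module

theorem w0_f : ((N.w0).2 : V ≃ₗ[F] V) N.f = -N.e := by
  simp only [w0, Prod.snd_mul, mul_apply, (N.z_spec 1).2, (N.zm_spec 1).2, tvG_apply, map_add,
    map_smul, LinearMap.add_apply, LinearMap.smul_apply, smul_eq_mul, N.Bee, N.Bef, N.Bfe, N.Bff]
  module

theorem k1_spec : N.k1 ∈ N.K0 ∧ (N.k1).2 = kg N.hA N.e (N.Φ.e N.p) := by
  refine lf_spec N.mapK0 ?_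
  have h := N.Φ.kg_e_mem_mm N.hA N.hp 1
  rwa [one_smul] at h

theorem kap_eq {g : iso B} (hg : g ∈ N.Φ.sub (N.p : ℕ)) :
    N.kap ((g : V ≃ₗ[F] V) (N.Φ.e N.p)) = N.L g * N.k1 * (N.L g)⁻¹ := by
  have h : ∃ g' ∈ N.Φ.sub (N.p : ℕ),
      (g' : V ≃ₗ[F] V) (N.Φ.e N.p) = (g : V ≃ₗ[F] V) (N.Φ.e N.p) := ⟨g, hg, rfl⟩
  rw [kap, dif_pos h]
  obtain ⟨h1, h2⟩ := h.choose_spec
  generalize h.choose = g' at h1 h2
  have hx : g⁻¹ * g' ∈ N.Φ.sub (N.p : ℕ) := mul_mem (inv_mem hg) h1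
  have hc := N.stabcomm _ hx (by rw [mul_apply, h2, ← mul_apply, inv_mul_cancel, one_apply])
  rw [show g' = g * (g⁻¹ * g') by group, N.L_mul hg hx]
  change N.L g * N.L (g⁻¹ * g') * N.k1 * (N.L g * N.L (g⁻¹ * g'))⁻¹ = _
  rw [mul_assoc (N.L g) (N.L (g⁻¹ * g')) N.k1]
  have hc' : N.L (g⁻¹ * g') * N.k1 = N.k1 * N.L (g⁻¹ * g') := hc
  rw [hc']
  group

theorem kap_zero : N.kap (0 : V) = 1 := by
  rw [kap, dif_neg]
  rintro ⟨g, -, hg⟩
  exact N.Φ.e_ne_zero _ ((LinearEquiv.map_eq_zero_iff _).1 hg)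

theorem kap_P : N.kap (N.Φ.e N.p) = N.k1 := by
  simpa [N.L_one, one_apply] using N.kap_eq (one_mem (N.Φ.sub (N.p : ℕ)))

theorem exists_map {v : V} (hv : N.W v) (hv0 : v ≠ 0) :
    ∃ g ∈ N.Φ.sub (N.p : ℕ), (g : V ≃ₗ[F] V) (N.Φ.e N.p) = v :=
  N.Φ.exists_sub_map N.hB N.hA N.W_P hv (N.Φ.e_ne_zero _) hv0

theorem kap_conj {g : iso B} (hg : g ∈ N.Φ.sub (N.p : ℕ)) {v : V} (hv : N.W v) :
    N.L g * N.kap v * (N.L g)⁻¹ = N.kap ((g : V ≃ₗ[F] V) v) := by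
  by_cases hv0 : v = 0
  · rw [hv0, map_zero, N.kap_zero]; simp
  · obtain ⟨h, hh, rfl⟩ := N.exists_map hv hv0
    rw [← mul_apply, N.kap_eq hh, N.kap_eq (mul_mem hg hh), N.L_mul hg hh]
    group

theorem kap_snd {v : V} (hv : N.W v) : (N.kap v).2 = kg N.hA N.e v := by
  by_cases hv0 : v = 0
  · rw [hv0, N.kap_zero, kg_zero]; rfl
  · obtain ⟨g, hg, rfl⟩ := N.exists_map hv hv0
    rw [N.kap_eq hg, Prod.snd_mul, Prod.snd_mul, Prod.snd_inv, (N.L_spec hg).2, N.k1_spec.2,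
      kg_conj, N.sub_fix_e hg]

theorem kap_plane (a b : F) : N.kap (a • N.Φ.e N.p + b • N.Φ.f N.p) ∈ N.K0 ⊔ N.A1 := by
  by_cases h : a = 0 ∧ b = 0
  · rw [h.1, h.2, zero_smul, zero_smul, add_zero, N.kap_zero]; exact one_mem _
  · obtain ⟨g, hg, hge⟩ := N.Φ.exists_plane_map N.hA N.p a b (by tauto)
    have hs := N.Φ.pl_le_ss N.hA _ hg
    rw [← hge, N.kap_eq (N.Φ.ss_le_sub le_rfl hs)]
    exact mul_mem (mul_mem (Subgroup.mem_sup_right (N.L_A1 hs)) (Subgroup.mem_sup_left N.k1_spec.1))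
      (inv_mem (Subgroup.mem_sup_right (N.L_A1 hs)))

theorem kap_smul_P (t : F) : N.kap (t • N.Φ.e N.p) ∈ N.K0 := by
  have hk : kg N.hA N.e (t • N.Φ.e N.p) ∈ N.Φ.mm N.m := N.Φ.kg_e_mem_mm N.hA N.hp t
  have h := lf_spec N.mapK0 hk
  have h' := N.kap_plane t 0
  rw [zero_smul, add_zero] at h'
  rw [N.inj01.eq h' (Subgroup.mem_sup_left h.1)
    ((N.kap_snd (N.W_smul t N.W_P)).trans h.2.symm)]
  exact h.1

theorem kap_mul_hyp {v w : V} (hv : N.W v) (hw : N.W w) (h : B v w ≠ 0) :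
    N.kap v * N.kap w = N.z (B w v) * N.kap (v + w) := by
  have hv0 : v ≠ 0 := fun e => h (by simp [e])
  obtain ⟨g, hg, rfl⟩ := N.exists_map hv hv0
  set w' := ((g⁻¹ : iso B) : V ≃ₗ[F] V) w with hw'
  have hgw : (g : V ≃ₗ[F] V) w' = w := by rw [hw', ← mul_apply, mul_inv_cancel, one_apply]
  have hW' : N.W w' := N.W_map (inv_mem hg) hw
  obtain ⟨y, hy, hdec⟩ := N.Φ.coord N.hA hW'
  set P := N.Φ.e N.p
  set Q := N.Φ.f N.p
  set a := B w' Q
  set b := B P w'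
  have hb : b ≠ 0 := by
    rw [show b = B P w' from rfl, ← iso_apply g, hgw]; exact h
  have hPy : B P y = 0 := by rw [skew N.hA y, (hy N.p (by omega)).1, neg_zero]
  have hQy : B Q y = 0 := by rw [skew N.hA y, (hy N.p (by omega)).2, neg_zero]
  set x := tvG N.hA P (-a / b) * kg N.hA P (-(b⁻¹ • y)) with hx
  have hxm : x ∈ N.Φ.sub (N.p : ℕ) := mul_mem (N.Φ.tv_mem_sub N.hA N.W_P _)
    (N.Φ.kg_mem_sub N.hA N.W_P (N.W_neg (N.W_smul _ (N.Φ.perp_mono (Nat.le_succ _) hy))))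
  have hP : B P P = 0 := N.hA.self_eq_zero _
  have hQP : B Q P = -1 := N.Φ.fe_self N.hA _
  have hxP : (x : V ≃ₗ[F] V) P = P := by
    rw [hx, mul_apply, kg_apply N.hA (by simp [hPy]), tvG_apply]
    simp [hP, hPy]
  have hxQ : (x : V ≃ₗ[F] V) (b • Q) = w' := by
    rw [hx, mul_apply, kg_apply N.hA (by simp [hPy]), tvG_apply, hdec]
    have hyP : B y P = 0 := by rw [skew N.hA P, hPy, neg_zero]
    simp only [map_add, map_smul, map_neg, LinearMap.add_apply, LinearMap.smul_apply,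
      LinearMap.neg_apply, smul_eq_mul, hP, hQP, hQy, hyP]
    match_scalars <;> field_simp <;> ring
  have hgx := mul_mem hg hxm
  have e1 : ((g * x : iso B) : V ≃ₗ[F] V) P = (g : V ≃ₗ[F] V) P := by rw [mul_apply, hxP]
  have e2 : ((g * x : iso B) : V ≃ₗ[F] V) (b • Q) = w := by rw [mul_apply, hxQ, hgw]
  have hWQ : N.W (b • Q) := N.W_smul _ N.W_Q
  have key : N.kap P * N.kap (b • Q) = N.z (B (b • Q) P) * N.kap (P + b • Q) := by
    have m1 : N.kap P ∈ N.K0 ⊔ N.A1 := by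
      have := N.kap_plane 1 0
      rwa [zero_smul, add_zero, one_smul] at this
    have m2 : N.kap (b • Q) ∈ N.K0 ⊔ N.A1 := by
      have := N.kap_plane 0 b
      rwa [zero_smul, zero_add] at this
    have m3 : N.kap (P + b • Q) ∈ N.K0 ⊔ N.A1 := by
      have := N.kap_plane 1 b
      rwa [one_smul] at this
    refine N.inj01.eq (mul_mem m1 m2) (mul_mem (Subgroup.mem_sup_left (N.z_mem_K0 _)) m3) ?_
    rw [Prod.snd_mul, Prod.snd_mul, (N.z_spec _).2, N.kap_snd N.W_P, N.kap_snd hWQ,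
      N.kap_snd (N.W_add N.W_P hWQ), kg_mul_kg N.hA (N.Be N.W_P) (N.Be hWQ)]
  have hz := N.L_comm hgx (N.z_spec (B (b • Q) P)).1
  have hB' : B w ((g : V ≃ₗ[F] V) P) = B (b • Q) P := by rw [← e2, ← e1, iso_apply]
  rw [hB', ← e1, ← e2, ← map_add, ← N.kap_conj hgx N.W_P, ← N.kap_conj hgx hWQ,
    ← N.kap_conj hgx (N.W_add N.W_P hWQ)]
  calc _ = N.L (g * x) * (N.kap P * N.kap (b • Q)) * (N.L (g * x))⁻¹ := by dsimp only [P, Q]; group
    _ = N.L (g * x) * (N.z (B (b • Q) P) * N.kap (P + b • Q)) * (N.L (g * x))⁻¹ := by rw [key]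
    _ = _ := by rw [← mul_assoc (N.L (g * x)), ← hz]; dsimp only [P, Q]; group

theorem A0_conj {h : H × iso B} (hh : h ∈ N.A0) {t : F}
    (ht : (h.2 : V ≃ₗ[F] V) N.e = t • N.e) {v : V} (hv : N.W v) :
    h * N.kap v * h⁻¹ = N.kap (t • v) := by
  by_cases hv0 : v = 0
  · rw [hv0, smul_zero, N.kap_zero]; simp
  · obtain ⟨g, hg, rfl⟩ := N.exists_map hv hv0
    have key : h * N.k1 * h⁻¹ = N.kap (t • N.Φ.e N.p) := by
      refine N.inj00.eq (mul_mem (mul_mem (Subgroup.mem_sup_right hh)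
        (Subgroup.mem_sup_left N.k1_spec.1)) (inv_mem (Subgroup.mem_sup_right hh)))
        (Subgroup.mem_sup_left (N.kap_smul_P t)) ?_
      rw [Prod.snd_mul, Prod.snd_mul, Prod.snd_inv, N.k1_spec.2, kg_conj, ht,
        N.W_fix (snd_mem N.mapA0 hh) N.W_P, kg_smul_left N.hA (N.Be N.W_P),
        N.kap_snd (N.W_smul t N.W_P)]
    have hc := N.L_comm hg hh
    rw [N.kap_eq hg, ← map_smul, ← N.kap_conj hg (N.W_smul t N.W_P), ← key]
    calc _ = (h * N.L g) * N.k1 * (h * N.L g)⁻¹ := by group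
      _ = (N.L g * h) * N.k1 * (N.L g * h)⁻¹ := by rw [hc]
      _ = _ := by group

theorem z_kap (c : F) {v : V} (hv : N.W v) : N.z c * N.kap v = N.kap v * N.z c := by
  have h := N.A0_conj (N.z_spec c).1 (t := 1) (by
    rw [(N.z_spec c).2, tvG_fix N.hA _ N.Bee, one_smul]) hv
  rw [one_smul] at h
  exact mul_inv_eq_iff_eq_mul.1 h

theorem kap_mul_neg {v : V} (hv : N.W v) (t : F) :
    N.kap v * N.kap (t • v) = N.kap (v + t • v) := by
  by_cases hv0 : v = 0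
  · simp [hv0, N.kap_zero]
  · obtain ⟨g, hg, rfl⟩ := N.exists_map hv hv0
    set P := N.Φ.e N.p
    have key : N.kap P * N.kap (t • P) = N.kap ((1 + t) • P) := by
      refine (N.inj00.mono le_sup_left).eq (mul_mem ?_ (N.kap_smul_P t)) (N.kap_smul_P _) ?_
      · have := N.kap_smul_P 1; rwa [one_smul] at this
      · rw [Prod.snd_mul, N.kap_snd N.W_P, N.kap_snd (N.W_smul t N.W_P),
          N.kap_snd (N.W_smul _ N.W_P), kg_mul_kg N.hA (N.Be N.W_P) (N.Be (N.W_smul t N.W_P))]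
        simp [N.hA.self_eq_zero, tvG_zero, add_smul]
    rw [← map_smul, ← map_add, show P + t • P = (1 + t) • P by simp [add_smul],
      ← N.kap_conj hg N.W_P, ← N.kap_conj hg (N.W_smul t N.W_P),
      ← N.kap_conj hg (N.W_smul _ N.W_P), ← key]
    dsimp only [P]
    group

theorem kap_mul_tri (hT : ∀ q : Fin n, (q : ℕ) = (N.p : ℕ) + 1 →
    ∃ g ∈ N.R, ∃ h ∈ N.R, ((g.2 : iso B) : V ≃ₗ[F] V) (N.Φ.e N.p) = N.Φ.e q ∧
      ((h.2 : iso B) : V ≃ₗ[F] V) (N.Φ.e N.p) = N.Φ.e N.p + N.Φ.e q ∧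
      N.k1 * (g * N.k1 * g⁻¹) = h * N.k1 * h⁻¹) {v w : V} (hv : N.W v) (hw : N.W w) (hvw : B v w = 0)
    (hv0 : v ≠ 0) (hdep : ¬∃ t : F, w = t • v) : N.kap v * N.kap w = N.kap (v + w) := by
  obtain ⟨g, hg, rfl⟩ := N.exists_map hv hv0
  set w' := ((g⁻¹ : iso B) : V ≃ₗ[F] V) w with hw'
  have hgw : (g : V ≃ₗ[F] V) w' = w := by rw [hw', ← mul_apply, mul_inv_cancel, one_apply]
  obtain ⟨y, hy, hdec⟩ := N.Φ.coord N.hA (N.W_map (inv_mem hg) hw : N.Φ.Perp (N.p : ℕ) w')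
  set P := N.Φ.e N.p
  have hb : B P w' = 0 := by rw [← iso_apply g, hgw]; exact hvw
  rw [hb, zero_smul, add_zero] at hdec
  set a := B w' (N.Φ.f N.p)
  have hy0 : y ≠ 0 := fun h0 => hdep ⟨a, by
    rw [← hgw, ← map_smul]; congr 1; rw [h0, add_zero] at hdec; exact hdec⟩
  have hqn : (N.p : ℕ) + 1 < n := by
    by_contra hc
    exact hy0 (N.Φ.perp_all N.hA (N.Φ.perp_mono (by omega) hy))
  set q : Fin n := ⟨(N.p : ℕ) + 1, hqn⟩
  obtain ⟨h0, hh0, hh0q⟩ := N.Φ.exists_sub_map N.hB N.hA (N.Φ.perp_e (le_refl (q : ℕ))) hy (N.Φ.e_ne_zero q) hy0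
  obtain ⟨r, hr, hyr⟩ : ∃ r, N.Φ.Perp ((N.p : ℕ) + 1) r ∧ B y r ≠ 0 := by
    by_contra hc
    push Not at hc
    refine hy0 (N.Φ.sep y fun l => ?_)
    by_cases hl : (l : ℕ) < (N.p : ℕ) + 1
    · exact hy l hl
    · exact ⟨hc _ (N.Φ.perp_e (by omega)), hc _ (N.Φ.perp_f N.hA (by omega))⟩
  set r' := (a / B y r) • r with hr'
  have hWr : N.Φ.Perp ((N.p : ℕ) + 1) r' := N.Φ.perp_smul _ hr
  have hPr : B P r' = 0 := by rw [skew N.hA r', (hWr N.p (by omega)).1, neg_zero]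
  have hPP : B P P = 0 := N.hA.self_eq_zero P
  set x := kg N.hA P r' * h0
  have hx : x ∈ N.Φ.sub (N.p : ℕ) :=
    mul_mem (N.Φ.kg_mem_sub N.hA N.W_P (N.Φ.perp_mono (Nat.le_succ _) hWr)) (N.Φ.sub_antitone (Nat.le_succ _) hh0)
  have hxP : (x : V ≃ₗ[F] V) P = P := by
    rw [mul_apply, (hh0 N.p (show (N.p : ℕ) < (N.p : ℕ) + 1 by omega)).1, kg_apply N.hA hPr, hPP, hPr]
    simp [P]
  have hxq : (x : V ≃ₗ[F] V) (N.Φ.e q) = w' := by
    refine Eq.trans ?_ hdec.symm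
    rw [mul_apply, hh0q, kg_apply N.hA hPr]
    rw [show B y P = 0 from (hy N.p (by omega)).1, hr', map_smul, smul_eq_mul, div_mul_cancel₀ _ hyr]
    module
  have hgx := mul_mem hg hx
  have hWq : N.W (N.Φ.e q) := N.Φ.perp_e (by simp only [q]; omega)
  obtain ⟨g1, hg1, h1, hh1, hg1P, hh1P, hrel⟩ := hT q rfl
  have key : N.kap P * N.kap (N.Φ.e q) = N.kap (P + N.Φ.e q) := by
    have s1 := N.kap_eq (snd_mem N.mapR hg1)
    have s2 := N.kap_eq (snd_mem N.mapR hh1)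
    rw [N.L_eq hg1, hg1P] at s1
    rw [N.L_eq hh1, hh1P] at s2
    rw [N.kap_P, s1, s2]
    exact hrel
  have e1 : ((g * x : iso B) : V ≃ₗ[F] V) P = (g : V ≃ₗ[F] V) P := by rw [mul_apply, hxP]
  have e2 : ((g * x : iso B) : V ≃ₗ[F] V) (N.Φ.e q) = w := by rw [mul_apply, hxq, hgw]
  rw [← e1, ← e2, ← map_add, ← N.kap_conj hgx N.W_P, ← N.kap_conj hgx hWq,
    ← N.kap_conj hgx (N.W_add N.W_P hWq), ← key]
  dsimp only [P]
  group

theorem kap_mul {v w : V} (hv : N.W v) (hw : N.W w) :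
    N.kap v * N.kap w = N.z (B w v) * N.kap (v + w) := by
  by_cases h : B v w = 0
  swap
  · exact N.kap_mul_hyp hv hw h
  have hwv : B w v = 0 := by rw [skew N.hA v, h, neg_zero]
  rw [hwv, N.z_zero, one_mul]
  by_cases hv0 : v = 0
  · simp [hv0, N.kap_zero]
  by_cases hdep : ∃ t : F, w = t • v
  · obtain ⟨t, rfl⟩ := hdep; exact N.kap_mul_neg hv t
  obtain ⟨a, ha0, ha1⟩ | hT := N.hF
  swap
  · exact N.kap_mul_tri hT hv hw h hv0 hdep
  obtain ⟨u, hu, huv, huw⟩ : ∃ u, N.W u ∧ B v u = 1 ∧ B w u = -a := by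
    obtain ⟨g, hg, rfl⟩ := N.exists_map hv hv0
    set w' := ((g⁻¹ : iso B) : V ≃ₗ[F] V) w with hw'
    have hgw : (g : V ≃ₗ[F] V) w' = w := by rw [hw', ← mul_apply, mul_inv_cancel, one_apply]
    obtain ⟨y, hy, hdec⟩ := N.Φ.coord N.hA (N.W_map (inv_mem hg) hw : N.Φ.Perp (N.p : ℕ) w')
    set P := N.Φ.e N.p
    set Q := N.Φ.f N.p
    have hb : B P w' = 0 := by rw [← iso_apply g, hgw]; exact h
    rw [hb, zero_smul, add_zero] at hdec
    have hy0 : y ≠ 0 := fun h0 => hdep ⟨B w' Q, by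
      rw [← hgw, ← map_smul]; congr 1; rw [h0, add_zero] at hdec; exact hdec⟩
    obtain ⟨r, hr, hyr⟩ : ∃ r, N.Φ.Perp ((N.p : ℕ) + 1) r ∧ B y r ≠ 0 := by
      by_contra hc
      push Not at hc
      refine hy0 (N.Φ.sep y fun l => ?_)
      by_cases hl : (l : ℕ) < (N.p : ℕ) + 1
      · exact hy l hl
      · exact ⟨hc _ (N.Φ.perp_e (by omega)), hc _ (N.Φ.perp_f N.hA (by omega))⟩
    have hPr : B P r = 0 := by rw [skew N.hA r, (hr N.p (by omega)).1, neg_zero]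
    have hPQ : B P Q = 1 := N.Φ.ef_self _
    have hyQ : B y Q = 0 := (hy N.p (by omega)).2
    set s := (-a - B w' Q) / B y r
    refine ⟨(g : V ≃ₗ[F] V) (Q + s • r),
      N.W_map hg (N.W_add N.W_Q (N.W_smul _ (N.Φ.perp_mono (Nat.le_succ _) hr))), ?_, ?_⟩
    · rw [iso_apply]; simp [hPQ, hPr]
    · rw [← hgw, iso_apply, show B w' = B (B w' Q • P + y) from congrArg B hdec]
      simp only [map_add, map_smul, LinearMap.add_apply, LinearMap.smul_apply, smul_eq_mul, hPQ,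
        hPr, hyQ]
      simp only [s]
      field_simp
      ring
  have huu : B u u = 0 := N.hA.self_eq_zero u
  have hvv : B v v = 0 := N.hA.self_eq_zero v
  have huv' : B u v = -1 := by rw [skew N.hA v, huv]
  have huw' : B u w = a := by rw [skew N.hA w, huw, neg_neg]
  have hwu := N.W_sub hw hu
  have hX := N.kap_mul_hyp hwu hu (by simp [huu, huw, ha0])
  have hY := N.kap_mul_hyp hv hwu (by simp [h, huv])
  have hZ := N.kap_mul_hyp (N.W_add hv hwu) hu (by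
    simp only [map_add, map_sub, LinearMap.add_apply, LinearMap.sub_apply, huu, huv, huw, sub_zero]
    intro h0; exact ha1 (by linear_combination -h0))
  rw [sub_add_cancel] at hX
  rw [show v + (w - u) + u = v + w by abel] at hZ
  have e1 : B u (w - u) = a := by simp [huu, huw']
  have e2 : B (w - u) v = 1 := by simp [hwv, huv']
  have e3 : B u (v + (w - u)) = a - 1 := by simp [huu, huv', huw']; ring
  rw [e1] at hX
  rw [e2] at hY
  rw [e3] at hZ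
  have hzz : N.z a = N.z 1 * N.z (a - 1) := by rw [← N.z_add, add_sub_cancel]
  have hzc : ∀ x, N.W x → N.z a * N.kap x = N.kap x * N.z a := fun x hx => N.z_kap a hx
  refine mul_left_cancel (a := N.z a) ?_
  calc N.z a * (N.kap v * N.kap w) = N.kap v * (N.z a * N.kap w) := by
        rw [← mul_assoc, hzc v hv, mul_assoc]
    _ = N.kap v * (N.kap (w - u) * N.kap u) := by rw [hX]
    _ = N.z 1 * (N.kap (v + (w - u)) * N.kap u) := by rw [← mul_assoc, hY, mul_assoc]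
    _ = _ := by rw [hZ, ← mul_assoc, ← hzz]

end Node

end Cfsg.Lib.Recog.SpAmalgam
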